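import Mathlib.RingTheory.Flat.Stability
import Mathlib.RingTheory.Flat.Localization
import Mathlib.RingTheory.RingHom.Flat
import Mathlib.RingTheory.TensorProduct.Basic
import Mathlib.LinearAlgebra.Matrix.NonsingularInverse
import Mathlib.RingTheory.Localization.Away.Basic
import Mathlib.LinearAlgebra.FreeModule.Basic
import Mathlib.RingTheory.TensorProduct.Free

/-!
# Ring lemmas for node N2 (helper713): descent of a ring map to a subring, coproducts, coordinates

* `desc` : `R ≤ L`, `σ : A0 → B0` flat, `Φ : L → L ⊗ B0` mapping generators of `R` into `R ⊗ B0`.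
* `exists_coprod` : coproducts over `ℤ`; `exists_pushout`.
* `exists_gl` : the ring of `GL_r1 × GL_rm` over `ℤ`, flat.
* `exists_coords` : coordinates of a finite family in a `k`-algebra.
* `exists_indep` : linear independence survives base change.
-/

set_option autoImplicit false
set_option linter.style.haveILetI false
universe u v w

open TensorProduct

namespace Groth.Agent.ResProp.EF.K713

/-- descent of a ring map to a subring -/
theorem desc {A0 : Type v} {B0 : Type w} {L : Type u} [CommRing A0] [CommRing B0] [CommRing L]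
    (R : Subring L) (a0 : A0 →+* R) (σ : A0 →+* B0) (hσ : σ.Flat) :
    ∃ (L' : Type (max u w)) (_ : CommRing L') (i1 : L →+* L') (i2 : B0 →+* L'),
      i1.comp (R.subtype.comp a0) = i2.comp σ ∧
      ∀ (Φ : L →+* L') (S : Set L), Subring.closure S = R →
        (∀ z ∈ S, ∃ (κ : Type) (_ : Fintype κ) (r : κ → R) (b : κ → B0), Φ z = ∑ i, i1 (r i) * i2 (b i)) →
        ∀ {T : Type u} [CommRing T] (ψ : R →+* T) (γ : B0 →+* T), ψ.comp a0 = γ.comp σ →
          ∃ ψ' : R →+* T, ∀ (z : R) {κ : Type} [Fintype κ] (r : κ → R) (b : κ → B0),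
            Φ z = ∑ i, i1 (r i) * i2 (b i) → ψ' z = ∑ i, ψ (r i) * γ (b i) := by
  letI : Algebra A0 R := a0.toAlgebra
  letI : Algebra A0 L := (R.subtype.comp a0).toAlgebra
  letI : Algebra A0 B0 := σ.toAlgebra
  haveI hfl : Module.Flat A0 B0 := hσ
  let f : R →ₐ[A0] L := { R.subtype with commutes' := fun a => rfl }
  let j : R ⊗[A0] B0 →ₐ[A0] L ⊗[A0] B0 := Algebra.TensorProduct.map f (AlgHom.id A0 B0)
  have hf : Function.Injective f.toLinearMap := Subtype.val_injective
  have hj : Function.Injective j := Module.Flat.rTensor_preserves_injective_linearMap f.toLinearMap hf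
  refine ⟨L ⊗[A0] B0, inferInstance, (Algebra.TensorProduct.includeLeft : L →ₐ[A0] L ⊗[A0] B0).toRingHom,
    (Algebra.TensorProduct.includeRight : B0 →ₐ[A0] L ⊗[A0] B0).toRingHom, ?_, ?_⟩
  · ext a
    exact ((Algebra.TensorProduct.includeLeft : L →ₐ[A0] L ⊗[A0] B0).commutes a).trans
      ((Algebra.TensorProduct.includeRight : B0 →ₐ[A0] L ⊗[A0] B0).commutes a).symm
  · intro Φ S hS hgen T _ ψ γ hc
    have key : ∀ (r : R) (b : B0), j (r ⊗ₜ[A0] b) =
        (Algebra.TensorProduct.includeLeft : L →ₐ[A0] L ⊗[A0] B0).toRingHom (r : L) *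
        (Algebra.TensorProduct.includeRight : B0 →ₐ[A0] L ⊗[A0] B0).toRingHom b := by
      intro r b
      simp [j, f]
    have h1 : R ≤ j.toRingHom.range.comap Φ := by
      refine le_trans (le_of_eq hS.symm) (Subring.closure_le.2 ?_)
      intro z hz
      obtain ⟨κ, _, r, b, h⟩ := hgen z hz
      refine Subring.mem_comap.2 ⟨∑ i, r i ⊗ₜ[A0] b i, ?_⟩
      rw [h]
      exact (map_sum j _ _).trans (Finset.sum_congr rfl fun i _ => key _ _)
    let e : R ⊗[A0] B0 ≃+* j.toRingHom.range := RingEquiv.ofBijective j.toRingHom.rangeRestrict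
      ⟨fun a b h => hj (congrArg Subtype.val h), j.toRingHom.rangeRestrict_surjective⟩
    let Φ' : R →+* j.toRingHom.range := (Φ.comp R.subtype).codRestrict j.toRingHom.range fun z => h1 z.2
    letI : Algebra A0 T := (ψ.comp a0).toAlgebra
    let ψa : R →ₐ[A0] T := { ψ with commutes' := fun a => rfl }
    let γa : B0 →ₐ[A0] T := { γ with commutes' := fun a => (RingHom.congr_fun hc a).symm }
    let q : R ⊗[A0] B0 →+* T := (Algebra.TensorProduct.productMap ψa γa).toRingHom
    refine ⟨q.comp (e.symm.toRingHom.comp Φ'), fun z κ _ r b h => ?_⟩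
    have h2 : e.symm (Φ' z) = ∑ i, r i ⊗ₜ[A0] b i := by
      rw [RingEquiv.symm_apply_eq]
      apply Subtype.ext
      change Φ z = j (∑ i, r i ⊗ₜ[A0] b i)
      rw [h, map_sum]
      exact Finset.sum_congr rfl fun i _ => (key _ _).symm
    change q (e.symm (Φ' z)) = _
    rw [h2, map_sum]
    refine Finset.sum_congr rfl fun i _ => ?_
    exact Algebra.TensorProduct.productMap_apply_tmul ψa γa _ _

/-- pushouts of rings -/
theorem exists_pushout {A : Type u} {B : Type u} {K : Type u} [CommRing A] [CommRing B] [CommRing K]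
    (x : A →+* K) (s : A →+* B) : ∃ (V : Type u) (_ : CommRing V) (i1 : K →+* V) (i2 : B →+* V),
      i1.comp x = i2.comp s ∧ ∀ {T : Type u} [CommRing T] (f : K →+* T) (g : B →+* T),
        f.comp x = g.comp s → ∃ F : V →+* T, F.comp i1 = f ∧ F.comp i2 = g := by
  letI : Algebra A K := x.toAlgebra
  letI : Algebra A B := s.toAlgebra
  refine ⟨K ⊗[A] B, inferInstance, (Algebra.TensorProduct.includeLeft : K →ₐ[A] K ⊗[A] B).toRingHom,
    (Algebra.TensorProduct.includeRight : B →ₐ[A] K ⊗[A] B).toRingHom, ?_, ?_⟩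
  · ext a
    exact ((Algebra.TensorProduct.includeLeft : K →ₐ[A] K ⊗[A] B).commutes a).trans
      ((Algebra.TensorProduct.includeRight : B →ₐ[A] K ⊗[A] B).commutes a).symm
  · intro T _ f g h
    letI : Algebra A T := (f.comp x).toAlgebra
    let fa : K →ₐ[A] T := { f with commutes' := fun a => rfl }
    let ga : B →ₐ[A] T := { g with commutes' := fun a => (RingHom.congr_fun h a).symm }
    refine ⟨(Algebra.TensorProduct.productMap fa ga).toRingHom, ?_, ?_⟩
    · ext a
      exact (Algebra.TensorProduct.productMap_apply_tmul fa ga a 1).trans (by rw [map_one, mul_one]; rfl)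
    · ext a
      exact (Algebra.TensorProduct.productMap_apply_tmul fa ga 1 a).trans (by rw [map_one, one_mul]; rfl)

/-- coproducts of rings -/
theorem exists_coprod {K : Type u} {O : Type w} [CommRing K] [CommRing O] :
    ∃ (V : Type (max u w)) (_ : CommRing V) (i1 : K →+* V) (i2 : O →+* V),
      ∀ {T : Type u} [CommRing T] (f : K →+* T) (g : O →+* T),
        ∃ F : V →+* T, F.comp i1 = f ∧ F.comp i2 = g := by
  refine ⟨K ⊗[ℤ] O, inferInstance, (Algebra.TensorProduct.includeLeft : K →ₐ[ℤ] K ⊗[ℤ] O).toRingHom,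
    (Algebra.TensorProduct.includeRight : O →ₐ[ℤ] K ⊗[ℤ] O).toRingHom, ?_⟩
  intro T _ f g
  refine ⟨(Algebra.TensorProduct.productMap f.toIntAlgHom g.toIntAlgHom).toRingHom, ?_, ?_⟩
  · ext a
    exact (Algebra.TensorProduct.productMap_apply_tmul f.toIntAlgHom g.toIntAlgHom a 1).trans
      (by rw [map_one, mul_one]; rfl)
  · ext a
    exact (Algebra.TensorProduct.productMap_apply_tmul f.toIntAlgHom g.toIntAlgHom 1 a).trans
      (by rw [map_one, one_mul]; rfl)

/-- the coordinate ring of `GL_r1 × GL_rm` over `ℤ` -/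
theorem exists_gl (r1 rm : ℕ) : ∃ (O : Type) (_ : CommRing O) (X X' : Matrix (Fin r1) (Fin r1) O)
    (Xm Xm' : Matrix (Fin rm) (Fin rm) O), X * X' = 1 ∧ X' * X = 1 ∧ Xm * Xm' = 1 ∧ Xm' * Xm = 1 ∧
      (Int.castRingHom O).Flat ∧ ∀ {T : Type u} [CommRing T] (Y Y' : Matrix (Fin r1) (Fin r1) T)
        (Ym Ym' : Matrix (Fin rm) (Fin rm) T), Y * Y' = 1 → Ym * Ym' = 1 →
        ∃ f : O →+* T, X.map f = Y ∧ X'.map f = Y' ∧ Xm.map f = Ym ∧ Xm'.map f = Ym' := by
  let σ : Type := (Fin r1 × Fin r1) ⊕ (Fin rm × Fin rm)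
  let P : Type := MvPolynomial σ ℤ
  let Z : Matrix (Fin r1) (Fin r1) P := Matrix.of fun i j => MvPolynomial.X (Sum.inl (i, j))
  let Zm : Matrix (Fin rm) (Fin rm) P := Matrix.of fun i j => MvPolynomial.X (Sum.inr (i, j))
  let d : P := Z.det * Zm.det
  let O : Type := Localization.Away d
  let ι : P →+* O := algebraMap P O
  have hd : IsUnit (ι d) := IsLocalization.Away.algebraMap_isUnit d
  have hd' : IsUnit (ι Z.det) ∧ IsUnit (ι Zm.det) := by
    rw [← IsUnit.mul_iff, ← map_mul]
    exact hd
  let X := Z.map ι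
  let Xm := Zm.map ι
  have hX : IsUnit X.det := by
    change IsUnit (Z.map ι).det
    rw [← RingHom.mapMatrix_apply, ← RingHom.map_det]
    exact hd'.1
  have hXm : IsUnit Xm.det := by
    change IsUnit (Zm.map ι).det
    rw [← RingHom.mapMatrix_apply, ← RingHom.map_det]
    exact hd'.2
  refine ⟨O, inferInstance, X, X⁻¹, Xm, Xm⁻¹, Matrix.mul_nonsing_inv _ hX, Matrix.nonsing_inv_mul _ hX,
    Matrix.mul_nonsing_inv _ hXm, Matrix.nonsing_inv_mul _ hXm, ?_, ?_⟩
  · have h1 : (algebraMap ℤ P).Flat := RingHom.flat_algebraMap_iff.2 inferInstance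
    have h2 : ι.Flat := RingHom.flat_algebraMap_iff.2 (IsLocalization.flat O (Submonoid.powers d))
    have h4 : (ι.comp (algebraMap ℤ P)).Flat := h1.comp h2
    rwa [Subsingleton.elim (Int.castRingHom O) (ι.comp (algebraMap ℤ P))]
  · intro T _ Y Y' Ym Ym' hY hYm
    let f0 : P →+* T := (MvPolynomial.eval₂Hom (Int.castRingHom T)
      (Sum.elim (fun z => Y z.1 z.2) (fun z => Ym z.1 z.2)))
    have e1 : Z.map f0 = Y := by
      ext i j
      exact MvPolynomial.eval₂Hom_X' _ _ _
    have e2 : Zm.map f0 = Ym := by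
      ext i j
      exact MvPolynomial.eval₂Hom_X' _ _ _
    have hu : IsUnit (f0 d) := by
      rw [map_mul, RingHom.map_det, RingHom.map_det, RingHom.mapMatrix_apply, RingHom.mapMatrix_apply, e1, e2]
      refine IsUnit.mul ?_ ?_
      · exact IsUnit.of_mul_eq_one Y'.det (by rw [← Matrix.det_mul, hY, Matrix.det_one])
      · exact IsUnit.of_mul_eq_one Ym'.det (by rw [← Matrix.det_mul, hYm, Matrix.det_one])
    let f : O →+* T := IsLocalization.Away.lift (S := O) d hu
    have hf : f.comp ι = f0 := IsLocalization.Away.lift_comp (S := O) d hu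
    have g1 : X.map f = Y := by
      change (Z.map ι).map f = Y
      rw [Matrix.map_map, ← RingHom.coe_comp, hf, e1]
    have g2 : Xm.map f = Ym := by
      change (Zm.map ι).map f = Ym
      rw [Matrix.map_map, ← RingHom.coe_comp, hf, e2]
    have k1 : Y * (X⁻¹).map f = 1 := by
      rw [← g1, ← Matrix.map_mul, Matrix.mul_nonsing_inv _ hX, Matrix.map_one _ (map_zero f) (map_one f)]
    have k2 : Ym * (Xm⁻¹).map f = 1 := by
      rw [← g2, ← Matrix.map_mul, Matrix.mul_nonsing_inv _ hXm, Matrix.map_one _ (map_zero f) (map_one f)]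
    have l1 : Y' * Y = 1 := mul_eq_one_comm.1 hY
    have l2 : Ym' * Ym = 1 := mul_eq_one_comm.1 hYm
    refine ⟨f, g1, ?_, g2, ?_⟩
    · calc (X⁻¹).map f = (Y' * Y) * (X⁻¹).map f := by rw [l1, one_mul]
        _ = Y' := by rw [mul_assoc, k1, mul_one]
    · calc (Xm⁻¹).map f = (Ym' * Ym) * (Xm⁻¹).map f := by rw [l2, one_mul]
        _ = Ym' := by rw [mul_assoc, k2, mul_one]

/-- coordinates of a finite family in a `k`-algebra -/
theorem exists_coords {k : Type u} {V : Type u} [Field k] [CommRing V] (i1 : k →+* V) {ι : Type} [Fintype ι]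
    (c : ι → V) : ∃ (r : ℕ) (w : Fin r → V) (M : Matrix (Fin r) ι k) (S : Matrix ι (Fin r) k),
      (∀ y : Fin r → k, ∑ b, w b * i1 (y b) = 0 → ∀ b, y b = 0) ∧ (∀ j, c j = ∑ b, w b * i1 (M b j)) ∧
      (∀ b, w b = ∑ j, c j * i1 (S j b)) ∧ M * S = 1 := by
  classical
  letI : Algebra k V := i1.toAlgebra
  let W : Submodule k V := Submodule.span k (Set.range c)
  haveI : Module.Finite k W := Module.Finite.span_of_finite k (Set.finite_range c)
  let B := Module.finBasis k W
  let w : Fin (Module.finrank k W) → V := fun b => (B b : V)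
  have hc : ∀ j, c j ∈ W := fun j => Submodule.subset_span ⟨j, rfl⟩
  let M : Matrix (Fin (Module.finrank k W)) ι k := Matrix.of fun b j => B.repr ⟨c j, hc j⟩ b
  have hsm : ∀ (a : k) (v : V), a • v = v * i1 a := fun a v => (Algebra.smul_def a v).trans (mul_comm _ _)
  have hM : ∀ j, c j = ∑ b, w b * i1 (M b j) := by
    intro j
    have h := congrArg Subtype.val (B.sum_repr ⟨c j, hc j⟩)
    rw [Submodule.coe_sum] at h
    refine h.symm.trans (Finset.sum_congr rfl fun b _ => ?_)
    exact (Submodule.coe_smul _ _).trans (hsm _ _)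
  have hw : ∀ b, ∃ S : ι → k, ∑ j, S j • c j = w b := fun b =>
    (Submodule.mem_span_range_iff_exists_fun k).1 (B b).2
  choose S hS using hw
  have hind : ∀ y : Fin (Module.finrank k W) → k, ∑ b, w b * i1 (y b) = 0 → ∀ b, y b = 0 := by
    intro y hy
    have h1 : LinearIndependent k w := B.linearIndependent.map' W.subtype (Submodule.ker_subtype W)
    refine Fintype.linearIndependent_iff.1 h1 y ?_
    rw [← hy]
    exact Finset.sum_congr rfl fun b _ => hsm _ _
  have hS' : ∀ b, w b = ∑ j, c j * i1 (S b j) := by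
    intro b
    rw [← hS b]
    exact Finset.sum_congr rfl fun j _ => hsm _ _
  refine ⟨_, w, M, Matrix.of fun j b => S b j, hind, hM, hS', ?_⟩
  ext a b
  have h2 : ∑ d, w d * i1 (∑ j, M d j * S b j - (1 : Matrix _ _ k) d b) = 0 := by
    have h3 : w b = ∑ d, w d * i1 (∑ j, M d j * S b j) := by
      conv_lhs => rw [hS' b]
      rw [Finset.sum_congr rfl fun j _ => by rw [hM j, Finset.sum_mul], Finset.sum_comm]
      refine Finset.sum_congr rfl fun d _ => ?_
      rw [map_sum, Finset.mul_sum]
      exact Finset.sum_congr rfl fun j _ => by rw [map_mul, mul_assoc]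
    have h4 : w b = ∑ d, w d * i1 ((1 : Matrix _ _ k) d b) := by
      rw [Finset.sum_eq_single b]
      · rw [Matrix.one_apply_eq, map_one, mul_one]
      · intro d _ hd
        rw [Matrix.one_apply_ne hd, map_zero, mul_zero]
      · intro h
        exact absurd (Finset.mem_univ b) h
    calc _ = ∑ d, w d * i1 (∑ j, M d j * S b j) - ∑ d, w d * i1 ((1 : Matrix _ _ k) d b) := by
          rw [← Finset.sum_sub_distrib]
          exact Finset.sum_congr rfl fun d _ => by rw [map_sub, mul_sub]
      _ = 0 := by rw [← h3, ← h4, sub_self]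
  have h5 := hind _ h2 a
  rw [Matrix.mul_apply]
  exact sub_eq_zero.1 h5

/-- linear independence survives base change -/
theorem exists_indep {k : Type u} {V T : Type u} [Field k] [CommRing V] [CommRing T] (i1 : k →+* V) (κ : k →+* T)
    {r : ℕ} (w : Fin r → V) (hw : ∀ y : Fin r → k, ∑ b, w b * i1 (y b) = 0 → ∀ b, y b = 0) :
    ∃ (T' : Type u) (_ : CommRing T') (j1 : V →+* T') (j2 : T →+* T'), j1.comp i1 = j2.comp κ ∧
      ∀ y : Fin r → T, ∑ b, j1 (w b) * j2 (y b) = 0 → ∀ b, y b = 0 := by
  letI : Algebra k V := i1.toAlgebra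
  letI : Algebra k T := κ.toAlgebra
  refine ⟨V ⊗[k] T, inferInstance, (Algebra.TensorProduct.includeLeft : V →ₐ[k] V ⊗[k] T).toRingHom,
    (Algebra.TensorProduct.includeRight : T →ₐ[k] V ⊗[k] T).toRingHom, ?_, ?_⟩
  · ext a
    exact ((Algebra.TensorProduct.includeLeft : V →ₐ[k] V ⊗[k] T).commutes a).trans
      ((Algebra.TensorProduct.includeRight : T →ₐ[k] V ⊗[k] T).commutes a).symm
  · intro y hy b
    have h1 : LinearIndependent k w := by
      refine Fintype.linearIndependent_iff.2 fun g hg => hw g ?_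
      rw [← hg]
      exact Finset.sum_congr rfl fun b _ => by rw [Algebra.smul_def, mul_comm]; rfl
    let f : (Fin r → k) →ₗ[k] V := Fintype.linearCombination k w
    have hf : Function.Injective f := by
      rw [injective_iff_map_eq_zero]
      intro g hg
      funext b
      exact Fintype.linearIndependent_iff.1 h1 g hg b
    have h2 : Function.Injective (f.rTensor T) := Module.Flat.rTensor_preserves_injective_linearMap f hf
    have h3 : f.rTensor T (∑ b, (Pi.single b (1 : k)) ⊗ₜ[k] y b) = 0 := by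
      rw [map_sum, ← hy]
      refine Finset.sum_congr rfl fun b _ => ?_
      rw [LinearMap.rTensor_tmul]
      have : f (Pi.single b 1) = w b := by
        simp [f]
      rw [this]
      simp
    have h4 : (∑ b, (Pi.single b (1 : k) : Fin r → k) ⊗ₜ[k] y b) = 0 := h2 (by rw [h3, map_zero])
    have h5 : (LinearMap.proj b : (Fin r → k) →ₗ[k] k).rTensor T
        (∑ b, (Pi.single b (1 : k) : Fin r → k) ⊗ₜ[k] y b) = 0 := by rw [h4, map_zero]
    rw [map_sum, Finset.sum_eq_single b] at h5
    · rw [LinearMap.rTensor_tmul, LinearMap.proj_apply, Pi.single_eq_same] at h5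
      have h6 := congrArg (TensorProduct.lid k T) h5
      rwa [TensorProduct.lid_tmul, one_smul, map_zero] at h6
    · intro b' _ hb
      rw [LinearMap.rTensor_tmul, LinearMap.proj_apply, Pi.single_eq_of_ne hb.symm, TensorProduct.zero_tmul]
    · intro h
      exact absurd (Finset.mem_univ b) h

end Groth.Agent.ResProp.EF.K713
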