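import Groth.Agent.ResProp.EF.K713.Pt2

/-!
# Node N2 (helper713): the ring of frames on the closure of one point
-/

set_option autoImplicit false
set_option linter.style.haveILetI false
universe u

open Groth.Agent.Grpsch.AffGrpd Groth.Agent.ResProp.EF.K412

namespace Groth.Agent.ResProp.EF.K713

section Minors

/-- if all maximal minors of a right invertible matrix kill `z`, then `z = 0` -/
theorem eq_zero_of_minors {T : Type u} [CommRing T] {r : ℕ} {ι : Type} [Fintype ι] (M : Matrix (Fin r) ι T)
    (S : Matrix ι (Fin r) T) (h : M * S = 1) (z : T) (hz : ∀ I : Fin r → ι, (M.submatrix id I).det * z = 0) :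
    z = 0 := by
  classical
  have h1 : (M * S).det = ∑ I : Fin r → ι, (∏ b, S (I b) b) * (M.submatrix id I).det := by
    have h2 : (M * S).det = Matrix.detRowAlternating (fun b => ∑ i, S i b • (fun a => M a i)) := by
      rw [← Matrix.det_transpose]
      congr 1
      ext b a
      rw [Matrix.transpose_apply, Matrix.mul_apply, Finset.sum_apply]
      exact Finset.sum_congr rfl fun i _ => mul_comm _ _
    rw [h2]
    have h3 := (Matrix.detRowAlternating (n := Fin r) (R := T)).toMultilinearMap.map_sum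
      (fun b (i : ι) => S i b • (fun a => M a i))
    refine h3.trans (Finset.sum_congr rfl fun I _ => ?_)
    have h4 := (Matrix.detRowAlternating (n := Fin r) (R := T)).toMultilinearMap.map_smul_univ
      (fun b => S (I b) b) (fun b a => M a (I b))
    refine h4.trans ?_
    rw [smul_eq_mul]
    congr 1
    exact (Matrix.det_transpose (M.submatrix id I))
  have h5 : (M * S).det * z = 0 := by
    rw [h1, Finset.sum_mul]
    refine Finset.sum_eq_zero fun I _ => ?_
    rw [mul_assoc, hz, mul_zero]
  rwa [h, Matrix.det_one, one_mul] at h5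

/-- the functional exists on points with a right invertible matrix -/
theorem exists_functional {L T : Type u} [CommRing L] [CommRing T] (R : Subring L) {r : ℕ} {ι : Type} [Fintype ι]
    (M : Matrix (Fin r) ι R) (ε : ι → R) (hw : ∃ w : Fin r → L, ∀ j, ∑ b, w b * (M b j : L) = ε j)
    (ψ : R →+* T) (S : Matrix ι (Fin r) T) (hS : M.map ψ * S = 1) :
    ∃ w : Fin r → T, ∀ j, ∑ b, w b * ψ (M b j) = ψ (ε j) := by
  classical
  obtain ⟨w, hw⟩ := hw
  -- the identity in `R`
  have key : ∀ (I : Fin r → ι), ∃ ρ : Fin r → R, ∀ j, ∑ b, ρ b * M b j = (M.submatrix id I).det * ε j := by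
    intro I
    refine ⟨fun b => ∑ a, ε (I a) * (M.submatrix id I).adjugate a b, fun j => ?_⟩
    have hinj : Function.Injective R.subtype := Subtype.val_injective
    apply hinj
    let N : Matrix (Fin r) (Fin r) R := M.submatrix id I
    let NL : Matrix (Fin r) (Fin r) L := N.map R.subtype
    let ML : Matrix (Fin r) ι L := M.map R.subtype
    have hadj : N.adjugate.map R.subtype = NL.adjugate := by
      have := RingHom.map_adjugate R.subtype N
      rwa [RingHom.mapMatrix_apply, RingHom.mapMatrix_apply] at this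
    have hdet : R.subtype N.det = NL.det := by
      have := RingHom.map_det R.subtype N
      rwa [RingHom.mapMatrix_apply] at this
    have e1 : R.subtype (∑ b, (∑ a, ε (I a) * N.adjugate a b) * M b j) =
        ∑ b, (∑ a, (∑ d, w d * ML d (I a)) * NL.adjugate a b) * ML b j := by
      rw [map_sum]
      refine Finset.sum_congr rfl fun b _ => ?_
      rw [map_mul, map_sum]
      congr 1
      refine Finset.sum_congr rfl fun a _ => ?_
      rw [map_mul]
      congr 1
      · exact (hw (I a)).symm
      · exact congrFun (congrFun hadj a) b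
    have e2 : ∀ b, ∑ a, (∑ d, w d * ML d (I a)) * NL.adjugate a b = w b * NL.det := by
      intro b
      simp_rw [Finset.sum_mul]
      rw [Finset.sum_comm]
      have e3 : ∀ d, ∑ a, w d * ML d (I a) * NL.adjugate a b = w d * (NL * NL.adjugate) d b := by
        intro d
        rw [Matrix.mul_apply, Finset.mul_sum]
        exact Finset.sum_congr rfl fun a _ => mul_assoc _ _ _
      rw [Finset.sum_congr rfl fun d _ => e3 d, Matrix.mul_adjugate, Finset.sum_eq_single b]
      · rw [Matrix.smul_apply, Matrix.one_apply_eq, smul_eq_mul, mul_one]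
      · intro d _ hd
        rw [Matrix.smul_apply, Matrix.one_apply_ne hd, smul_zero, mul_zero]
      · intro h
        exact absurd (Finset.mem_univ b) h
    refine e1.trans ?_
    rw [Finset.sum_congr rfl fun b _ => by rw [e2 b], map_mul]
    have e4 : R.subtype (M.submatrix id I).det = NL.det := hdet
    rw [e4]
    have e5 : R.subtype (ε j) = ∑ b, w b * ML b j := (hw j).symm
    rw [e5, Finset.mul_sum]
    exact Finset.sum_congr rfl fun b _ => by ring
  -- in `T`
  refine ⟨fun b => ∑ i, ψ (ε i) * S i b, fun j => ?_⟩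
  rw [← sub_eq_zero]
  refine eq_zero_of_minors (M.map ψ) S hS _ fun I => ?_
  obtain ⟨ρ, hρ⟩ := key I
  have hd : ((M.map ψ).submatrix id I).det = ψ (M.submatrix id I).det := by
    have := RingHom.map_det ψ (M.submatrix id I)
    rw [this]
    rfl
  have hρ' : ∀ i, ψ (M.submatrix id I).det * ψ (ε i) = ∑ b, ψ (ρ b) * ψ (M b i) := by
    intro i
    rw [← map_mul, ← hρ i, map_sum]
    exact Finset.sum_congr rfl fun b _ => map_mul _ _ _
  rw [hd, mul_sub, sub_eq_zero, hρ' j, Finset.mul_sum]
  have f1 : ∀ b, ψ (M.submatrix id I).det * ((∑ i, ψ (ε i) * S i b) * ψ (M b j)) =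
      ∑ d, ψ (ρ d) * ((M.map ψ * S) d b * ψ (M b j)) := by
    intro b
    rw [← mul_assoc, Finset.mul_sum]
    simp_rw [← mul_assoc, hρ', Matrix.mul_apply, Finset.sum_mul, Finset.mul_sum]
    rw [Finset.sum_comm]
    refine Finset.sum_congr rfl fun d _ => ?_
    rw [Finset.sum_mul]
    exact Finset.sum_congr rfl fun i _ => by rw [Matrix.map_apply]; ring
  rw [Finset.sum_congr rfl fun b _ => f1 b, Finset.sum_comm]
  refine Finset.sum_congr rfl fun d _ => ?_
  rw [← Finset.mul_sum, hS]
  congr 1
  rw [Finset.sum_eq_single d]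
  · rw [Matrix.one_apply_eq, one_mul]
  · intro b _ hb
    rw [Matrix.one_apply_ne hb.symm, zero_mul]
  · intro h
    exact absurd (Finset.mem_univ d) h

end Minors

variable {A B : Type u} [CommRing A] [CommRing B] {Lb : Type u} [CommRing Lb] [Algebra Lb A] {G : RGrpd A B}
  {D : Gen Lb G} {r1 rm : ℕ}

/-- the entries of a framed point -/
def ent {L : Type u} [CommRing L] (P : FrPt D r1 rm L) : Set L :=
  Set.range P.a ∪ Set.range (fun z : Fin r1 × Fin D.n => P.M z.1 z.2) ∪
    Set.range (fun z : Fin rm × (Fin D.m → Fin D.n) => P.Mm z.1 z.2) ∪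
    Set.range (fun z : Fin rm × (Fin D.m → Fin r1) => P.mu z.1 z.2)

section Lift

variable {L : Type u} [CommRing L] (P : FrPt D r1 rm L)

/-- the ring generated by the entries -/
def RR : Subring L := Subring.closure (ent P)

theorem mem_a (u : A) : P.a u ∈ RR P := Subring.subset_closure (Or.inl (Or.inl (Or.inl ⟨u, rfl⟩)))

theorem mem_M (b : Fin r1) (j : Fin D.n) : P.M b j ∈ RR P :=
  Subring.subset_closure (Or.inl (Or.inl (Or.inr ⟨(b, j), rfl⟩)))

theorem mem_Mm (b : Fin rm) (j : Fin D.m → Fin D.n) : P.Mm b j ∈ RR P :=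
  Subring.subset_closure (Or.inl (Or.inr ⟨(b, j), rfl⟩))

theorem mem_mu (b : Fin rm) (j : Fin D.m → Fin r1) : P.mu b j ∈ RR P :=
  Subring.subset_closure (Or.inr ⟨(b, j), rfl⟩)

/-- the point over the ring of entries -/
def lift : FrPt D r1 rm (RR P) where
  a := P.a.codRestrict (RR P) (mem_a P)
  M := Matrix.of fun b j => ⟨P.M b j, mem_M P b j⟩
  Mm := Matrix.of fun b j => ⟨P.Mm b j, mem_Mm P b j⟩
  mu := Matrix.of fun b j => ⟨P.mu b j, mem_mu P b j⟩

theorem lift_map : (lift P).map (RR P).subtype = P := rfl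

theorem lift_gen : Subring.closure (ent (lift P)) = ⊤ := by
  rw [eq_top_iff]
  intro z _
  have h : ∀ (y : L) (hy : y ∈ Subring.closure (ent P)), (⟨y, hy⟩ : RR P) ∈ Subring.closure (ent (lift P)) := by
    intro y hy
    induction hy using Subring.closure_induction with
    | mem y hy =>
      refine Subring.subset_closure ?_
      rcases hy with ((⟨u, rfl⟩ | ⟨z, rfl⟩) | ⟨z, rfl⟩) | ⟨z, rfl⟩
      · exact Or.inl (Or.inl (Or.inl ⟨u, rfl⟩))
      · exact Or.inl (Or.inl (Or.inr ⟨z, rfl⟩))
      · exact Or.inl (Or.inr ⟨z, rfl⟩)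
      · exact Or.inr ⟨z, rfl⟩
    | zero => exact Subring.zero_mem _
    | one => exact Subring.one_mem _
    | add a b ha hb h1 h2 => exact Subring.add_mem _ h1 h2
    | neg a ha h1 => exact Subring.neg_mem _ h1
    | mul a b ha hb h1 h2 => exact Subring.mul_mem _ h1 h2
  exact h z.1 z.2

end Lift

theorem isFrC_map {K K' : Type u} [CommRing K] [CommRing K'] (f : K →+* K') (P : FrPt D r1 rm K) (h : IsFrC P) :
    IsFrC (P.map f) where
  hmu b J := by
    refine (congrArg f (h.hmu b J)).trans ?_
    rw [map_sum]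
    exact Finset.sum_congr rfl fun Q _ => by rw [map_mul, map_prod]; rfl
  rel1 v hv b := by
    refine Eq.trans ?_ ((congrArg f (h.rel1 v hv b)).trans (map_zero f))
    rw [map_sum]
    exact Finset.sum_congr rfl fun Q _ => by rw [map_mul]; rfl
  relm v hv b := by
    refine Eq.trans ?_ ((congrArg f (h.relm v hv b)).trans (map_zero f))
    rw [map_sum]
    exact Finset.sum_congr rfl fun Q _ => by rw [map_mul]; rfl

theorem isFrC_of_injective {K K' : Type u} [CommRing K] [CommRing K'] (f : K →+* K') (hf : Function.Injective f)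
    (P : FrPt D r1 rm K) (h : IsFrC (P.map f)) : IsFrC P where
  hmu b J := by
    apply hf
    refine (h.hmu b J).trans ?_
    rw [map_sum]
    exact Finset.sum_congr rfl fun Q _ => by rw [map_mul, map_prod]; rfl
  rel1 v hv b := by
    apply hf
    refine Eq.trans ?_ ((h.rel1 v hv b).trans (map_zero f).symm)
    rw [map_sum]
    exact Finset.sum_congr rfl fun Q _ => by rw [map_mul]; rfl
  relm v hv b := by
    apply hf
    refine Eq.trans ?_ ((h.relm v hv b).trans (map_zero f).symm)
    rw [map_sum]
    exact Finset.sum_congr rfl fun Q _ => by rw [map_mul]; rfl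

/-- **Node N2** -/
theorem n2 (D : Gen Lb G) : K412.N2 D := by
  intro hfl k _ x
  obtain ⟨H⟩ := exists_cho D x
  obtain ⟨O, _, X, X', Xm, Xm', hX1, hX2, hXm1, hXm2, hO, hOu⟩ := exists_gl.{u} H.C1.r H.Cm.r
  obtain ⟨L, _, l1, l2, hL⟩ := exists_coprod (K := H.E.V) (O := O)
  let Y := X.map l2
  let Y' := X'.map l2
  let Ym := Xm.map l2
  let Ym' := Xm'.map l2
  have hY : Y * Y' = 1 := by
    change X.map l2 * X'.map l2 = 1
    rw [← Matrix.map_mul, hX1, Matrix.map_one _ (map_zero l2) (map_one l2)]
  have hYm : Ym * Ym' = 1 := by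
    change Xm.map l2 * Xm'.map l2 = 1
    rw [← Matrix.map_mul, hXm1, Matrix.map_one _ (map_zero l2) (map_one l2)]
  let P := H.pt l1 Y Y' Ym
  -- points of `L`
  have hcl : IsFrC (lift P) := isFrC_of_injective (RR P).subtype Subtype.val_injective (lift P)
    (H.closed l1 Y Y' Ym hY)
  refine ⟨{
    r1 := H.C1.r
    rm := H.Cm.r
    R := RR P
    P := lift P
    gen := lift_gen P
    closed := hcl
    ep := ?_
    act := ?_
    gact := ?_
    pt := ?_ }⟩
  · intro T _ ψ h1 hm
    refine { isFrC_map ψ (lift P) hcl with sur1 := h1, surm := hm, ep1 := ?_, epm := ?_ }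
    · obtain ⟨S, hS⟩ := h1
      exact exists_functional (RR P) (lift P).M (fun j => (lift P).a (G.e (D.c j))) (H.pt_ep1 l1 Y Y' Ym hY) ψ S hS
    · obtain ⟨S, hS⟩ := hm
      exact exists_functional (RR P) (lift P).Mm (fun j => (lift P).a (G.e (mon D.c j)))
        (H.pt_epm l1 Y Y' Ym Ym' hYm) ψ S hS
  · -- arrows
    intro T _ ψ γ hγ
    obtain ⟨L', _, i1, i2, hc, hdesc⟩ := desc.{u, u, u} (RR P) (lift P).a G.s hfl
    have hc0 : i2.comp G.s = ((i1.comp l1).comp H.E.i2).comp G.t := by
      rw [← hc]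
      rfl
    have hs : ((i1.comp l1).comp H.E.i1).comp x = (G.comp i2 ((i1.comp l1).comp H.E.i2) hc0).comp G.s := by
      rw [G.comp_s, RingHom.comp_assoc, H.E.comm]
      rfl
    obtain ⟨F', hF1, hF2⟩ := H.E.desc _ _ hs
    obtain ⟨Φ, hΦ1, hΦ2⟩ := hL F' (i1.comp l2)
    have hP1 : P.map Φ = H.pt F' (Y.map i1) (Y'.map i1) (Ym.map i1) := by
      have e1 : P.map Φ = H.pt (Φ.comp l1) (Y.map Φ) (Y'.map Φ) (Ym.map Φ) := H.pt_map Φ l1 Y Y' Ym
      have e2 : ∀ {n : ℕ} (Z : Matrix (Fin n) (Fin n) O), (Z.map l2).map Φ = (Z.map l2).map i1 := by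
        intro n Z
        ext i j
        exact RingHom.congr_fun hΦ2 (Z i j)
      rw [e1, hΦ1]
      congr 1
      · exact e2 X
      · exact e2 X'
      · exact e2 Xm
    have hP0 : P.map i1 = H.pt (i1.comp l1) (Y.map i1) (Y'.map i1) (Ym.map i1) := H.pt_map i1 l1 Y Y' Ym
    have htr : IsTrans i2 (P.map i1) (P.map Φ) := by
      rw [hP1, hP0]
      exact H.trans (i1.comp l1) F' _ _ _ i2 hc0 hF1 hF2
    have hth : ThetaEq (P.map i1) (P.map Φ) := by
      rw [hP1, hP0]
      exact H.theta (i1.comp l1) F' _ _ _ i2 hc0 hF1 hF2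
    obtain ⟨ψ', hψ'⟩ := hdesc Φ (ent P) rfl (by
      rintro z (((⟨v, rfl⟩ | ⟨z, rfl⟩) | ⟨z, rfl⟩) | ⟨z, rfl⟩)
      · refine ⟨Unit, inferInstance, fun _ => 1, fun _ => G.t v, ?_⟩
        have e := RingHom.congr_fun htr.tgt v
        simp only [Finset.univ_unique, Finset.sum_singleton]
        rw [Subring.coe_one, map_one, one_mul]
        exact e.symm
      · refine ⟨Fin D.n, inferInstance, fun i => (lift P).M z.1 i, fun i => G.i (D.g i z.2), ?_⟩
        exact htr.hM z.1 z.2
      · refine ⟨Fin D.m → Fin D.n, inferInstance, fun I => (lift P).Mm z.1 I,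
          fun I => ∏ l, G.i (D.g (I l) (z.2 l)), ?_⟩
        refine (htr.hMm z.1 z.2).trans (Finset.sum_congr rfl fun I _ => ?_)
        rw [map_prod]
        rfl
      · refine ⟨Unit, inferInstance, fun _ => (lift P).mu z.1 z.2, fun _ => 1, ?_⟩
        simp only [Finset.univ_unique, Finset.sum_singleton]
        rw [map_one, mul_one]
        exact congrFun (congrFun htr.hmu z.1) z.2) ψ γ hγ.symm
    -- invariant elements
    have hinv : ∀ z : RR P, Φ z = i1 z → ψ' z = ψ z := by
      intro z hz
      have e := hψ' z (κ := Unit) (fun _ => z) (fun _ => 1) (by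
        simp only [Finset.univ_unique, Finset.sum_singleton]
        rw [map_one, mul_one]
        exact hz)
      simp only [Finset.univ_unique, Finset.sum_singleton] at e
      rwa [map_one, mul_one] at e
    refine ⟨ψ', ⟨hγ, ?_, fun b j => ?_, fun b J => ?_, ?_⟩, ⟨fun b => ?_, ?_, fun l b => ?_, fun k' b b' => ?_, fun l => ?_⟩⟩
    · ext v
      have e := hψ' ((lift P).a v) (κ := Unit) (fun _ => 1) (fun _ => G.t v) (by
        have e := RingHom.congr_fun htr.tgt v
        simp only [Finset.univ_unique, Finset.sum_singleton]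
        rw [Subring.coe_one, map_one, one_mul]
        exact e.symm)
      simp only [Finset.univ_unique, Finset.sum_singleton] at e
      rw [map_one, one_mul] at e
      exact e.symm
    · exact hψ' ((lift P).M b j) (fun i => (lift P).M b i) (fun i => G.i (D.g i j)) (htr.hM b j)
    · refine (hψ' ((lift P).Mm b J) (fun I => (lift P).Mm b I) (fun I => ∏ l, G.i (D.g (I l) (J l))) ?_).trans ?_
      · refine (htr.hMm b J).trans (Finset.sum_congr rfl fun I _ => ?_)
        rw [map_prod]
        rfl
      · refine Finset.sum_congr rfl fun I _ => ?_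
        rw [map_prod]
        rfl
    · ext b J
      exact hinv ((lift P).mu b J) (congrFun (congrFun htr.hmu b) J)
    · exact (hinv ((lift P).M b D.i0) (hth.th0 b).symm).symm
    · ext b J
      exact (hinv ((lift P).mu b J) (congrFun (congrFun htr.hmu b) J)).symm
    · have e := hinv (∑ J, (lift P).Mm b J * (lift P).a (D.tx l J)) (by
        have e1 := hth.th2 l b
        refine Eq.trans ?_ (e1.symm.trans ?_)
        · simp only [AddSubmonoidClass.coe_finsetSum, map_sum]
          refine Finset.sum_congr rfl fun J _ => ?_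
          rw [Subring.coe_mul, map_mul]
          rfl
        · simp only [AddSubmonoidClass.coe_finsetSum, map_sum]
          refine Finset.sum_congr rfl fun J _ => ?_
          rw [Subring.coe_mul, map_mul]
          rfl)
      rw [map_sum, map_sum] at e
      simp only [map_mul] at e
      exact e.symm
    · have e := hinv (∑ i, (lift P).M b i * ∑ J, (lift P).Mm b' J * (lift P).a (D.ig i k' J)) (by
        have e1 := hth.th3 k' b b'
        refine Eq.trans ?_ (e1.symm.trans ?_)
        · simp only [AddSubmonoidClass.coe_finsetSum, map_sum, Subring.coe_mul, map_mul]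
          rfl
        · simp only [AddSubmonoidClass.coe_finsetSum, map_sum, Subring.coe_mul, map_mul]
          rfl)
      simp only [map_sum, map_mul] at e
      exact e.symm
    · exact (hinv ((lift P).a (algebraMap Lb A l)) (hth.thL l).symm).symm
  · -- the group
    intro T _ ψ Z Zm hZ hZm
    obtain ⟨L', _, i1, i2, hc, hdesc⟩ := desc.{u, 0, 0} (RR P) (Int.castRingHom (RR P)) (Int.castRingHom O) hO
    let W := X.map i2
    let W' := X'.map i2
    let Wm := Xm.map i2
    let Wm' := Xm'.map i2
    have hW : W * W' = 1 := by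
      change X.map i2 * X'.map i2 = 1
      rw [← Matrix.map_mul, hX1, Matrix.map_one _ (map_zero i2) (map_one i2)]
    have hWm : Wm * Wm' = 1 := by
      change Xm.map i2 * Xm'.map i2 = 1
      rw [← Matrix.map_mul, hXm1, Matrix.map_one _ (map_zero i2) (map_one i2)]
    have hYi : Y.map i1 * Y'.map i1 = 1 := by
      rw [← Matrix.map_mul, hY, Matrix.map_one _ (map_zero i1) (map_one i1)]
    have hYmi : Ym.map i1 * Ym'.map i1 = 1 := by
      rw [← Matrix.map_mul, hYm, Matrix.map_one _ (map_zero i1) (map_one i1)]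
    obtain ⟨f, f1, f2, f3, f4⟩ := hOu (W * Y.map i1) (Y'.map i1 * W') (Wm * Ym.map i1) (Ym'.map i1 * Wm')
      (by rw [Matrix.mul_assoc, ← Matrix.mul_assoc (Y.map i1), hYi, Matrix.one_mul, hW])
      (by rw [Matrix.mul_assoc, ← Matrix.mul_assoc (Ym.map i1), hYmi, Matrix.one_mul, hWm])
    obtain ⟨Φ, hΦ1, hΦ2⟩ := hL (i1.comp l1) f
    have hP1 : P.map Φ = H.pt (i1.comp l1) (W * Y.map i1) (Y'.map i1 * W') (Wm * Ym.map i1) := by
      have e1 : P.map Φ = H.pt (Φ.comp l1) (Y.map Φ) (Y'.map Φ) (Ym.map Φ) := H.pt_map Φ l1 Y Y' Ym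
      have e2 : ∀ {n : ℕ} (Z : Matrix (Fin n) (Fin n) O), (Z.map l2).map Φ = Z.map f := by
        intro n Z
        ext i j
        exact RingHom.congr_fun hΦ2 (Z i j)
      rw [e1, hΦ1, ← f1, ← f2, ← f3]
      congr 1
      · exact e2 X
      · exact e2 X'
      · exact e2 Xm
    have hP0 : P.map i1 = H.pt (i1.comp l1) (Y.map i1) (Y'.map i1) (Ym.map i1) := H.pt_map i1 l1 Y Y' Ym
    have htr : IsGTrans W Wm (P.map i1) (P.map Φ) := by
      rw [hP1, hP0]
      exact H.gtrans (i1.comp l1) _ _ W W' _ Wm hW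
    -- `mu`
    have hmu : ∀ b (J : Fin D.m → Fin H.C1.r), (P.map Φ).mu b J =
        ∑ z : Fin H.Cm.r × (Fin D.m → Fin H.C1.r), i1 (P.mu z.1 z.2) * i2 (Xm b z.1 * pw D.m X' z.2 J) := by
      intro b J
      have e1 : (P.map Φ).mu * pw D.m W = Wm * (P.map i1).mu := by
        ext b J
        exact htr.hmu b J
      have e2 : (P.map Φ).mu = Wm * (P.map i1).mu * pw D.m W' := by
        rw [← e1, Matrix.mul_assoc, ← pw_mul, hW, pw_one, Matrix.mul_one]
      rw [e2, Matrix.mul_apply]
      simp_rw [Matrix.mul_apply, Finset.sum_mul]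
      rw [Finset.sum_comm, Fintype.sum_prod_type]
      refine Finset.sum_congr rfl fun d _ => ?_
      refine Finset.sum_congr rfl fun Q _ => ?_
      have e3 : pw D.m W' Q J = i2 (pw D.m X' Q J) := congrFun (congrFun (pw_map D.m X' i2) Q) J
      rw [e3, map_mul]
      change i2 (Xm b d) * i1 (P.mu d Q) * _ = _
      ring
    -- the point of the group
    obtain ⟨Z', hZ'⟩ := hZ.exists_right_inv
    obtain ⟨Zm', hZm'⟩ := hZm.exists_right_inv
    obtain ⟨γ, g1, g2, g3, g4⟩ := hOu Z Z' Zm Zm' hZ' hZm'
    obtain ⟨ψ', hψ'⟩ := hdesc Φ (ent P) rfl (by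
      rintro z (((⟨v, rfl⟩ | ⟨z, rfl⟩) | ⟨z, rfl⟩) | ⟨z, rfl⟩)
      · refine ⟨Unit, inferInstance, fun _ => (lift P).a v, fun _ => 1, ?_⟩
        simp only [Finset.univ_unique, Finset.sum_singleton]
        rw [map_one, mul_one]
        exact RingHom.congr_fun htr.ha v
      · refine ⟨Fin H.C1.r, inferInstance, fun i => (lift P).M i z.2, fun i => X z.1 i, ?_⟩
        refine (congrFun (congrFun htr.hM z.1) z.2).trans ?_
        rw [Matrix.mul_apply]
        exact Finset.sum_congr rfl fun i _ => mul_comm _ _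
      · refine ⟨Fin H.Cm.r, inferInstance, fun i => (lift P).Mm i z.2, fun i => Xm z.1 i, ?_⟩
        refine (congrFun (congrFun htr.hMm z.1) z.2).trans ?_
        rw [Matrix.mul_apply]
        exact Finset.sum_congr rfl fun i _ => mul_comm _ _
      · exact ⟨Fin H.Cm.r × (Fin D.m → Fin H.C1.r), inferInstance, fun y => (lift P).mu y.1 y.2,
          fun y => Xm z.1 y.1 * pw D.m X' y.2 z.2, hmu z.1 z.2⟩) ψ γ (Subsingleton.elim _ _)
    refine ⟨ψ', ⟨?_, ?_, ?_, fun b J => ?_⟩⟩
    · ext v
      have e := hψ' ((lift P).a v) (κ := Unit) (fun _ => (lift P).a v) (fun _ => 1) (by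
        simp only [Finset.univ_unique, Finset.sum_singleton]
        rw [map_one, mul_one]
        exact RingHom.congr_fun htr.ha v)
      simp only [Finset.univ_unique, Finset.sum_singleton] at e
      rw [map_one, mul_one] at e
      exact e
    · ext b j
      have e := hψ' ((lift P).M b j) (fun i => (lift P).M i j) (fun i => X b i) (by
        refine (congrFun (congrFun htr.hM b) j).trans ?_
        rw [Matrix.mul_apply]
        exact Finset.sum_congr rfl fun i _ => mul_comm _ _)
      refine Eq.trans e ?_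
      rw [Matrix.mul_apply]
      refine Finset.sum_congr rfl fun i _ => ?_
      rw [mul_comm]
      congr 1
      exact congrFun (congrFun g1 b) i
    · ext b j
      have e := hψ' ((lift P).Mm b j) (fun i => (lift P).Mm i j) (fun i => Xm b i) (by
        refine (congrFun (congrFun htr.hMm b) j).trans ?_
        rw [Matrix.mul_apply]
        exact Finset.sum_congr rfl fun i _ => mul_comm _ _)
      refine Eq.trans e ?_
      rw [Matrix.mul_apply]
      refine Finset.sum_congr rfl fun i _ => ?_
      rw [mul_comm]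
      congr 1
      exact congrFun (congrFun g3 b) i
    · have e1 : ((lift P).map ψ').mu = Zm * ((lift P).map ψ).mu * pw D.m Z' := by
        ext b J
        have e := hψ' ((lift P).mu b J) (fun y : Fin H.Cm.r × (Fin D.m → Fin H.C1.r) => (lift P).mu y.1 y.2)
          (fun y => Xm b y.1 * pw D.m X' y.2 J) (hmu b J)
        refine Eq.trans e ?_
        rw [Matrix.mul_apply, Fintype.sum_prod_type]
        simp_rw [Matrix.mul_apply, Finset.sum_mul]
        rw [Finset.sum_comm]
        refine Finset.sum_congr rfl fun Q _ => ?_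
        refine Finset.sum_congr rfl fun d _ => ?_
        have e3 : pw D.m Z' Q J = γ (pw D.m X' Q J) := by
          rw [← g2]
          exact congrFun (congrFun (pw_map D.m X' γ) Q) J
        have e4 : Zm b d = γ (Xm b d) := (congrFun (congrFun g3 b) d).symm
        rw [e3, e4, map_mul]
        change ψ _ * _ = γ _ * ψ _ * _
        ring
      have e2 : ((lift P).map ψ').mu * pw D.m Z = Zm * ((lift P).map ψ).mu := by
        rw [e1, Matrix.mul_assoc, ← pw_mul, mul_eq_one_comm.1 hZ', pw_one, Matrix.mul_one]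
      exact congrFun (congrFun e2 b) J
  · -- the point over `x`
    have hx : (RingHom.id k).comp x = (x.comp G.e).comp G.s := by
      rw [RingHom.comp_assoc, G.e_s]
      rfl
    obtain ⟨F, hF1, hF2⟩ := H.E.desc (RingHom.id k) (x.comp G.e) hx
    obtain ⟨f, f1, f2, f3, f4⟩ := hOu (T := k) 1 1 1 1 (Matrix.one_mul _) (Matrix.one_mul _)
    obtain ⟨ψ, h1, h2⟩ := hL F f
    have hP : P.map ψ = H.pt F 1 1 1 := by
      have e1 : P.map ψ = H.pt (ψ.comp l1) (Y.map ψ) (Y'.map ψ) (Ym.map ψ) := H.pt_map ψ l1 Y Y' Ym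
      have e2 : ∀ {n : ℕ} (Z : Matrix (Fin n) (Fin n) O), (Z.map l2).map ψ = Z.map f := by
        intro n Z
        ext i j
        exact RingHom.congr_fun h2 (Z i j)
      rw [e1, h1]
      congr 1
      · exact (e2 X).trans f1
      · exact (e2 X').trans f2
      · exact (e2 Xm).trans f3
    have hi : H.inv F = ((RingHom.id k).comp x).comp G.e := by
      rw [Cho.inv, hF2, inv_id]
      rfl
    refine ⟨ψ.comp (RR P).subtype, ?_, ⟨H.C1.S, ?_⟩, ⟨H.Cm.S, ?_⟩⟩
    · have e : (P.map ψ).a = x := by
        rw [hP]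
        change (F.comp H.E.i2).comp G.t = x
        rw [hF2, RingHom.comp_assoc, G.e_t, RingHom.comp_id]
      exact e
    · have e : (P.map ψ).M * H.C1.S = 1 := by
        rw [hP]
        change (1 * H.C1.mat (F.comp H.E.i1) (H.inv F)) * H.C1.S = 1
        rw [Matrix.one_mul, hF1, hi, H.C1.mat_id]
        exact H.C1.MS
      exact e
    · have e : (P.map ψ).Mm * H.Cm.S = 1 := by
        rw [hP]
        change (1 * H.Cm.mat (F.comp H.E.i1) (H.inv F)) * H.Cm.S = 1
        rw [Matrix.one_mul, hF1, hi, H.Cm.mat_id]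
        exact H.Cm.MS
      exact e

end Groth.Agent.ResProp.EF.K713
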