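import Groth.Agent.ResProp.EF.K412.Defs
import Groth.Agent.ResProp.EF.K713.Desc

/-!
# Points of the frame ring over arrows out of one point (N2, helper713)
-/

set_option autoImplicit false
set_option linter.style.haveILetI false
universe u v w

open Groth.Agent.Grpsch.AffGrpd

namespace Groth.Agent.ResProp.EF.K713

variable {A B : Type u} [CommRing A] [CommRing B]

section Grpd

variable (G : RGrpd A B) {T : Type u} [CommRing T]

theorem comp_congr {α α' β β' : B →+* T} (h : α.comp G.s = β.comp G.t) (hα : α = α') (hβ : β = β') :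
    G.comp α β h = G.comp α' β' (by rw [← hα, ← hβ, h]) := by
  subst hα hβ
  rfl

/-- `(αβ)⁻¹ = β⁻¹α⁻¹`, first half -/
theorem comp_inv_comp (α β : B →+* T) (h : α.comp G.s = β.comp G.t) :
    G.comp β ((G.comp α β h).comp G.i) (by rw [RingHom.comp_assoc, G.i_t, G.comp_s]) = α.comp G.i := by
  have e1 : (G.comp α β h).comp G.s = ((G.comp α β h).comp G.i).comp G.t := by rw [RingHom.comp_assoc, G.i_t]
  have h1 := G.comp_i (G.comp α β h)
  have hb : β.comp G.s = ((G.comp α β h).comp G.i).comp G.t := by rw [RingHom.comp_assoc, G.i_t, G.comp_s]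
  have h2 := G.assoc α β ((G.comp α β h).comp G.i) h hb
  have h3 : G.comp α (G.comp β ((G.comp α β h).comp G.i) hb) (h.trans (G.comp_t _ _ hb).symm) =
      (α.comp G.t).comp G.e := by
    rw [← h2]
    refine h1.trans ?_
    rw [G.comp_t]
  have ha : (α.comp G.i).comp G.s = α.comp G.t := by rw [RingHom.comp_assoc, G.i_s]
  have h4 := G.assoc (α.comp G.i) α (G.comp β ((G.comp α β h).comp G.i) hb) ha (h.trans (G.comp_t _ _ hb).symm)
  have h5 : G.comp (G.comp (α.comp G.i) α ha) (G.comp β ((G.comp α β h).comp G.i) hb)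
      ((G.comp_s _ _ ha).trans (h.trans (G.comp_t _ _ hb).symm)) = G.comp β ((G.comp α β h).comp G.i) hb := by
    refine (comp_congr G _ (G.i_comp α) rfl).trans ?_
    have h6 := G.e_comp (G.comp β ((G.comp α β h).comp G.i) hb)
    refine Eq.trans (comp_congr G _ ?_ rfl) h6
    rw [G.comp_t, h]
  have h7 : G.comp (α.comp G.i) (G.comp α (G.comp β ((G.comp α β h).comp G.i) hb) (h.trans (G.comp_t _ _ hb).symm))
      (ha.trans (G.comp_t _ _ _).symm) = α.comp G.i := by
    refine (comp_congr G _ rfl h3).trans ?_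
    have h8 := G.comp_e (α.comp G.i)
    refine Eq.trans (comp_congr G _ rfl ?_) h8
    rw [ha]
  exact h5.symm.trans (h4.trans h7)

/-- `(αβ)⁻¹ = β⁻¹α⁻¹` -/
theorem inv_comp (α β : B →+* T) (h : α.comp G.s = β.comp G.t) :
    (G.comp α β h).comp G.i = G.comp (β.comp G.i) (α.comp G.i)
      (by rw [RingHom.comp_assoc, RingHom.comp_assoc, G.i_s, G.i_t, h]) := by
  have hb : β.comp G.s = ((G.comp α β h).comp G.i).comp G.t := by rw [RingHom.comp_assoc, G.i_t, G.comp_s]
  have h1 := comp_inv_comp G α β h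
  have hc : (β.comp G.i).comp G.s = β.comp G.t := by rw [RingHom.comp_assoc, G.i_s]
  have h2 := G.assoc (β.comp G.i) β ((G.comp α β h).comp G.i) hc hb
  have h3 : G.comp (G.comp (β.comp G.i) β hc) ((G.comp α β h).comp G.i) ((G.comp_s _ _ hc).trans hb) =
      (G.comp α β h).comp G.i := by
    refine (comp_congr G _ (G.i_comp β) rfl).trans ?_
    have h6 := G.e_comp ((G.comp α β h).comp G.i)
    refine Eq.trans (comp_congr G _ ?_ rfl) h6
    rw [hb]
  refine h3.symm.trans (h2.trans ?_)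
  exact comp_congr G _ rfl h1

/-- the inverse of an identity -/
theorem inv_id (y : A →+* T) : (y.comp G.e).comp G.i = y.comp G.e := by
  have h1 := G.comp_i (y.comp G.e)
  have h2 := G.e_comp ((y.comp G.e).comp G.i)
  have e0 : ((y.comp G.e).comp G.i).comp G.t = (y.comp G.e).comp G.s := by
    rw [RingHom.comp_assoc G.t G.i (y.comp G.e), G.i_t]
  have e0' : (y.comp G.e).comp G.s = y := by rw [RingHom.comp_assoc, G.e_s, RingHom.comp_id]
  have e3 : (y.comp G.e).comp G.t = y := by rw [RingHom.comp_assoc, G.e_t, RingHom.comp_id]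
  have e1 : (((y.comp G.e).comp G.i).comp G.t).comp G.e = y.comp G.e := by rw [e0, e0']
  have e2 : ((y.comp G.e).comp G.t).comp G.e = y.comp G.e := by rw [e3]
  have h3 := comp_congr G (by rw [e1, e0]) e1 (rfl : (y.comp G.e).comp G.i = _)
  exact (h2.symm.trans h3).trans (h1.trans e2)

end Grpd

/-- tensor powers of matrices -/
def pw {T : Type v} [CommRing T] {a b : Type} (m : ℕ) (X : Matrix a b T) : Matrix (Fin m → a) (Fin m → b) T :=
  Matrix.of fun I J => ∏ k, X (I k) (J k)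

theorem pw_mul {T : Type u} [CommRing T] {a b c : Type} [Fintype b] (m : ℕ) (X : Matrix a b T) (Y : Matrix b c T) :
    pw m (X * Y) = pw m X * pw m Y := by
  classical
  ext I J
  rw [Matrix.mul_apply]
  change ∏ k, (X * Y) (I k) (J k) = ∑ Q : Fin m → b, (∏ k, X (I k) (Q k)) * ∏ k, Y (Q k) (J k)
  simp_rw [Matrix.mul_apply]
  rw [Finset.prod_univ_sum, Fintype.piFinset_univ]
  exact Finset.sum_congr rfl fun Q _ => Finset.prod_mul_distrib

theorem pw_one {T : Type u} [CommRing T] {a : Type} [DecidableEq a] (m : ℕ) :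
    pw m (1 : Matrix a a T) = 1 := by
  ext I J
  change ∏ k, (1 : Matrix a a T) (I k) (J k) = _
  rw [Matrix.one_apply]
  split_ifs with h
  · subst h
    exact Finset.prod_eq_one fun k _ => Matrix.one_apply_eq _
  · obtain ⟨k, hk⟩ := Function.ne_iff.1 h
    exact Finset.prod_eq_zero (Finset.mem_univ k) (Matrix.one_apply_ne hk)

theorem pw_map {T : Type v} {T' : Type w} [CommRing T] [CommRing T'] {a b : Type} (m : ℕ) (X : Matrix a b T) (f : T →+* T') :
    pw m (X.map f) = (pw m X).map f := by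
  ext I J
  exact (map_prod f (fun k => X (I k) (J k)) Finset.univ).symm

/-- a finite family with a comodule matrix -/
structure Fam (G : RGrpd A B) (ι : Type) [Fintype ι] where
  c : ι → B
  g : Matrix ι ι B
  comp_c : ∀ {T : Type u} [CommRing T] (α β : B →+* T) (h : α.comp G.s = β.comp G.t) (j : ι),
    G.comp α β h (c j) = ∑ i, α (c i) * β (g i j)

variable {G : RGrpd A B}

/-- monomials -/
def Fam.pow {ι : Type} [Fintype ι] (Φ : Fam G ι) (m : ℕ) : Fam G (Fin m → ι) where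
  c J := ∏ k, Φ.c (J k)
  g := pw m Φ.g
  comp_c := by
    classical
    intro T _ α β h J
    rw [map_prod]
    simp_rw [Φ.comp_c]
    rw [Finset.prod_univ_sum, Fintype.piFinset_univ]
    refine Finset.sum_congr rfl fun Q _ => ?_
    rw [Finset.prod_mul_distrib, map_prod, pw, Matrix.of_apply, map_prod]

/-- the fibre of `B` over a point -/
structure Fb (G : RGrpd A B) {k : Type u} [Field k] (x : A →+* k) where
  V : Type u
  [cr : CommRing V]
  i1 : k →+* V
  i2 : B →+* V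
  comm : i1.comp x = i2.comp G.s
  desc : ∀ {T : Type u} [CommRing T] (f : k →+* T) (g : B →+* T), f.comp x = g.comp G.s →
    ∃ F : V →+* T, F.comp i1 = f ∧ F.comp i2 = g

attribute [instance] Fb.cr

variable {k : Type u} [Field k] {x : A →+* k}

/-- coordinates of a family in the fibre -/
structure Coo {ι : Type} [Fintype ι] (Φ : Fam G ι) (E : Fb G x) where
  r : ℕ
  w : Fin r → E.V
  M : Matrix (Fin r) ι k
  S : Matrix ι (Fin r) k
  ind : ∀ y : Fin r → k, ∑ b, w b * E.i1 (y b) = 0 → ∀ b, y b = 0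
  hM : ∀ j, E.i2 (Φ.c j) = ∑ b, w b * E.i1 (M b j)
  hw : ∀ b, w b = ∑ j, E.i2 (Φ.c j) * E.i1 (S j b)
  MS : M * S = 1

namespace Coo

variable {ι : Type} [Fintype ι] {Φ : Fam G ι} {E : Fb G x} (C : Coo Φ E) {T : Type u} [CommRing T]

theorem kl0 (κ : k →+* T) (y : Fin C.r → T)
    (H : ∀ {T' : Type u} [CommRing T'] (f : T →+* T') (F : E.V →+* T'), F.comp E.i1 = f.comp κ →
      ∑ b, F (C.w b) * f (y b) = 0) (b : Fin C.r) : y b = 0 := by
  obtain ⟨T', _, j1, j2, hj, hind⟩ := exists_indep E.i1 κ C.w C.ind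
  exact hind y (H j2 j1 hj) b

theorem sum_w {T' : Type u} [CommRing T'] (κ : k →+* T) (f : T →+* T') (F : E.V →+* T')
    (hF : F.comp E.i1 = f.comp κ) (v : ι → T) :
    ∑ b, F (C.w b) * f (∑ i, κ (C.M b i) * v i) = ∑ i, F (E.i2 (Φ.c i)) * f (v i) := by
  have h1 : ∀ b, F (C.w b) * f (∑ i, κ (C.M b i) * v i) =
      ∑ i, (F (C.w b) * F (E.i1 (C.M b i))) * f (v i) := by
    intro b
    rw [map_sum, Finset.mul_sum]
    refine Finset.sum_congr rfl fun i _ => ?_
    have h2 : F (E.i1 (C.M b i)) = f (κ (C.M b i)) := RingHom.congr_fun hF _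
    rw [map_mul, h2, mul_assoc]
  rw [Finset.sum_congr rfl fun b _ => h1 b, Finset.sum_comm]
  refine Finset.sum_congr rfl fun i _ => ?_
  rw [← Finset.sum_mul, C.hM, map_sum]
  simp_rw [map_mul]

/-- **key lemma** -/
theorem kl (κ : k →+* T) (v : ι → T)
    (H : ∀ {T' : Type u} [CommRing T'] (f : T →+* T') (α : B →+* T'), α.comp G.s = (f.comp κ).comp x →
      ∑ i, α (Φ.c i) * f (v i) = 0) (b : Fin C.r) : ∑ i, κ (C.M b i) * v i = 0 := by
  refine C.kl0 κ (fun b => ∑ i, κ (C.M b i) * v i) (fun f F hF => ?_) b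
  rw [C.sum_w κ f F hF]
  refine H f (F.comp E.i2) ?_
  rw [RingHom.comp_assoc, ← E.comm, ← RingHom.comp_assoc, hF]

/-- the matrix of an arrow `β` with target `x` -/
def mat (κ : k →+* T) (β : B →+* T) : Matrix (Fin C.r) ι T := C.M.map κ * Φ.g.map β

theorem mat_apply (κ : k →+* T) (β : B →+* T) (b : Fin C.r) (j : ι) :
    C.mat κ β b j = ∑ i, κ (C.M b i) * β (Φ.g i j) := rfl

theorem mat_map {T' : Type u} [CommRing T'] (κ : k →+* T) (β : B →+* T) (f : T →+* T') :
    (C.mat κ β).map f = C.mat (f.comp κ) (f.comp β) := by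
  rw [mat, Matrix.map_mul, Matrix.map_map, Matrix.map_map]
  rfl

/-- the value at a composite -/
theorem sum_comp {T' : Type u} [CommRing T'] (κ : k →+* T) (β : B →+* T) (f : T →+* T') (F : E.V →+* T')
    (hF : F.comp E.i1 = f.comp κ) (hβ : β.comp G.t = κ.comp x) (j : ι) :
    ∑ b, F (C.w b) * f (C.mat κ β b j) = G.comp (F.comp E.i2) (f.comp β)
      (by rw [RingHom.comp_assoc, ← E.comm, ← RingHom.comp_assoc, hF, RingHom.comp_assoc, RingHom.comp_assoc, hβ]) (Φ.c j) := by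
  rw [Φ.comp_c]
  exact C.sum_w κ f F hF fun i => β (Φ.g i j)

theorem sum_s {T' : Type u} [CommRing T'] (κ : k →+* T) (β : B →+* T) (f : T →+* T') (F : E.V →+* T')
    (hF : F.comp E.i1 = f.comp κ) (hβ : β.comp G.t = κ.comp x) (v : ι → A) :
    ∑ b, F (C.w b) * f (∑ j, C.mat κ β b j * β (G.s (v j))) = G.comp (F.comp E.i2) (f.comp β)
      (by rw [RingHom.comp_assoc, ← E.comm, ← RingHom.comp_assoc, hF, RingHom.comp_assoc, RingHom.comp_assoc, hβ])
      (∑ j, G.s (v j) * Φ.c j) := by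
  have hc : (F.comp E.i2).comp G.s = (f.comp β).comp G.t := by
    rw [RingHom.comp_assoc, ← E.comm, ← RingHom.comp_assoc, hF, RingHom.comp_assoc, RingHom.comp_assoc, hβ]
  have h1 : ∀ b, F (C.w b) * f (∑ j, C.mat κ β b j * β (G.s (v j))) =
      ∑ j, (F (C.w b) * f (C.mat κ β b j)) * f (β (G.s (v j))) := by
    intro b
    rw [map_sum, Finset.mul_sum]
    exact Finset.sum_congr rfl fun i _ => by rw [map_mul, mul_assoc]
  rw [Finset.sum_congr rfl fun b _ => h1 b, Finset.sum_comm]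
  have h2 : ∀ j, ∑ b, (F (C.w b) * f (C.mat κ β b j)) * f (β (G.s (v j))) =
      G.comp (F.comp E.i2) (f.comp β) hc (G.s (v j) * Φ.c j) := by
    intro j
    rw [← Finset.sum_mul, C.sum_comp κ β f F hF hβ, map_mul, mul_comm]
    congr 1
    exact (RingHom.congr_fun (G.comp_s _ _ hc) (v j)).symm
  rw [Finset.sum_congr rfl fun j _ => h2 j, ← map_sum]

/-- relations -/
theorem mat_rel (κ : k →+* T) (β : B →+* T) (hβ : β.comp G.t = κ.comp x) (v : ι → A)
    (hv : ∑ j, G.s (v j) * Φ.c j = 0) (b : Fin C.r) : ∑ j, C.mat κ β b j * β (G.s (v j)) = 0 := by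
  refine C.kl0 κ (fun b => ∑ j, C.mat κ β b j * β (G.s (v j))) (fun f F hF => ?_) b
  rw [C.sum_s κ β f F hF hβ, hv, map_zero]

/-- values of target functions -/
theorem mat_t (κ : k →+* T) (β : B →+* T) (hβ : β.comp G.t = κ.comp x) (v : ι → A) (z : A)
    (hv : G.t z = ∑ j, G.s (v j) * Φ.c j) (b : Fin C.r) :
    ∑ j, C.mat κ β b j * β (G.s (v j)) = ∑ j, κ (C.M b j) * κ (x (v j)) := by
  rw [← sub_eq_zero]
  refine C.kl0 κ (fun b => ∑ j, C.mat κ β b j * β (G.s (v j)) - ∑ j, κ (C.M b j) * κ (x (v j)))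
    (fun f F hF => ?_) b
  simp_rw [map_sub, mul_sub, Finset.sum_sub_distrib]
  have hc : (F.comp E.i2).comp G.s = (f.comp β).comp G.t := by
    rw [RingHom.comp_assoc, ← E.comm, ← RingHom.comp_assoc, hF, RingHom.comp_assoc, RingHom.comp_assoc, hβ]
  rw [C.sum_s κ β f F hF hβ, ← hv, C.sum_w κ f F hF fun j => κ (x (v j)), sub_eq_zero]
  refine (RingHom.congr_fun (G.comp_t _ _ hc) z).trans ?_
  change F (E.i2 (G.t z)) = _
  rw [hv, map_sum, map_sum]
  refine Finset.sum_congr rfl fun j _ => ?_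
  rw [map_mul, map_mul, mul_comm]
  congr 1
  have h1 : E.i2 (G.s (v j)) = E.i1 (x (v j)) := (RingHom.congr_fun E.comm (v j)).symm
  rw [h1]
  exact RingHom.congr_fun hF _

/-- the unit function -/
theorem mat_one (κ : k →+* T) (β : B →+* T) (hβ : β.comp G.t = κ.comp x) (j : ι) (hj : Φ.c j = 1)
    (b : Fin C.r) : C.mat κ β b j = κ (C.M b j) := by
  rw [← sub_eq_zero]
  refine C.kl0 κ (fun b => C.mat κ β b j - κ (C.M b j)) (fun f F hF => ?_) b
  simp_rw [map_sub, mul_sub, Finset.sum_sub_distrib]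
  rw [C.sum_comp κ β f F hF hβ, hj, map_one, sub_eq_zero]
  have h2 : ∑ b, F (C.w b) * f (κ (C.M b j)) = F (E.i2 (Φ.c j)) := by
    rw [C.hM, map_sum]
    refine Finset.sum_congr rfl fun b _ => ?_
    rw [map_mul]
    congr 1
    exact (RingHom.congr_fun hF _).symm
  rw [h2, hj, map_one, map_one]

/-- the value at the identity -/
theorem mat_ep {F : E.V →+* T} (j : ι) :
    ∑ b, F (C.w b) * C.mat (F.comp E.i1) ((F.comp E.i2).comp G.i) b j = F (E.i2 (G.t (G.e (Φ.c j)))) := by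
  have hβ : ((F.comp E.i2).comp G.i).comp G.t = (F.comp E.i1).comp x := by
    rw [RingHom.comp_assoc G.t G.i, G.i_t, RingHom.comp_assoc, ← E.comm, RingHom.comp_assoc]
  refine (C.sum_comp (F.comp E.i1) ((F.comp E.i2).comp G.i) (RingHom.id T) F rfl hβ j).trans ?_
  exact RingHom.congr_fun (G.comp_i (F.comp E.i2)) (Φ.c j)

/-- multiplicativity -/
theorem mat_comp (κ : k →+* T) (β γ : B →+* T) (hβ : β.comp G.t = κ.comp x) (h : β.comp G.s = γ.comp G.t) :
    C.mat κ (G.comp β γ h) = C.mat κ β * Φ.g.map γ := by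
  ext b j
  rw [← sub_eq_zero, Matrix.mul_apply]
  refine C.kl0 κ (fun b => C.mat κ (G.comp β γ h) b j - ∑ l, C.mat κ β b l * (Φ.g.map γ) l j) (fun f F hF => ?_) b
  have hc : (F.comp E.i2).comp G.s = (f.comp β).comp G.t := by
    rw [RingHom.comp_assoc, ← E.comm, ← RingHom.comp_assoc, hF, RingHom.comp_assoc, RingHom.comp_assoc, hβ]
  have h' : (f.comp β).comp G.s = (f.comp γ).comp G.t := by rw [RingHom.comp_assoc, h, RingHom.comp_assoc]
  have hbt : (G.comp β γ h).comp G.t = κ.comp x := by rw [G.comp_t, hβ]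
  have h1 := C.sum_comp κ (G.comp β γ h) f F hF hbt j
  have h2 : G.comp (F.comp E.i2) (f.comp (G.comp β γ h)) (by rw [hc, G.comp_nat, G.comp_t]) (Φ.c j) =
      ∑ l, G.comp (F.comp E.i2) (f.comp β) hc (Φ.c l) * f (γ (Φ.g l j)) := by
    rw [comp_congr G (by rw [hc, G.comp_nat, G.comp_t]) rfl (G.comp_nat f β γ h),
      ← G.assoc (F.comp E.i2) (f.comp β) (f.comp γ) hc h', Φ.comp_c]
    rfl
  simp_rw [map_sub, mul_sub, Finset.sum_sub_distrib]
  rw [h1, h2, sub_eq_zero]
  symm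
  simp_rw [map_sum, Finset.mul_sum]
  rw [Finset.sum_comm]
  refine Finset.sum_congr rfl fun l _ => ?_
  rw [← C.sum_comp κ β f F hF hβ, Finset.sum_mul]
  refine Finset.sum_congr rfl fun b _ => ?_
  rw [map_mul, mul_assoc]
  rfl

/-- identities -/
theorem mat_id (κ : k →+* T) : C.mat κ ((κ.comp x).comp G.e) = C.M.map κ := by
  ext b j
  rw [← sub_eq_zero]
  have hβ : ((κ.comp x).comp G.e).comp G.t = κ.comp x := by rw [RingHom.comp_assoc, G.e_t, RingHom.comp_id]
  refine C.kl0 κ (fun b => C.mat κ ((κ.comp x).comp G.e) b j - (C.M.map κ) b j) (fun f F hF => ?_) b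
  simp_rw [map_sub, mul_sub, Finset.sum_sub_distrib]
  have hc : (F.comp E.i2).comp G.s = (f.comp κ).comp x := by
    rw [RingHom.comp_assoc, ← E.comm, ← RingHom.comp_assoc, hF]
  rw [C.sum_comp κ _ f F hF hβ, sub_eq_zero]
  have h1 := G.comp_e (F.comp E.i2)
  have h2 : ∑ b, F (C.w b) * f ((C.M.map κ) b j) = F (E.i2 (Φ.c j)) := by
    rw [C.hM, map_sum]
    refine Finset.sum_congr rfl fun b _ => ?_
    rw [map_mul]
    congr 1
    exact (RingHom.congr_fun hF _).symm
  rw [h2]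
  change _ = (F.comp E.i2) (Φ.c j)
  conv_rhs => rw [← h1]
  refine RingHom.congr_fun (comp_congr G _ rfl ?_) _
  rw [hc]
  rfl

/-- theta 3 -/
theorem mat_three {ι' : Type} [Fintype ι'] {Φ' : Fam G ι'} (C' : Coo Φ' E) (κ : k →+* T) (β β' : B →+* T)
    (hβ : β.comp G.t = κ.comp x) (hβ' : β'.comp G.t = κ.comp x) (k' : ι) (v : ι → ι' → A)
    (hv : ∀ i, G.i (Φ.g i k') = ∑ J, G.s (v i J) * Φ'.c J) (b : Fin C.r) (b' : Fin C'.r) :
    ∑ i, C.mat κ β b i * ∑ J, C'.mat κ β b' J * β (G.s (v i J)) =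
      ∑ i, C.mat κ β' b i * ∑ J, C'.mat κ β' b' J * β' (G.s (v i J)) := by
  rw [← sub_eq_zero]
  refine C'.kl0 κ (fun b' => ∑ i, C.mat κ β b i * ∑ J, C'.mat κ β b' J * β (G.s (v i J)) -
      ∑ i, C.mat κ β' b i * ∑ J, C'.mat κ β' b' J * β' (G.s (v i J))) (fun f F hF => ?_) b'
  simp_rw [map_sub, mul_sub, Finset.sum_sub_distrib]
  rw [sub_eq_zero]
  have key : ∀ (β : B →+* T) (hβ : β.comp G.t = κ.comp x),
      ∑ b', F (C'.w b') * f (∑ i, C.mat κ β b i * ∑ J, C'.mat κ β b' J * β (G.s (v i J))) =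
        C.mat (f.comp κ) ((F.comp E.i2).comp G.i) b k' := by
    intro β hβ
    have hc : (F.comp E.i2).comp G.s = (f.comp β).comp G.t := by
      rw [RingHom.comp_assoc, ← E.comm, ← RingHom.comp_assoc, hF, RingHom.comp_assoc, RingHom.comp_assoc, hβ]
    have h1 : ∑ b', F (C'.w b') * f (∑ i, C.mat κ β b i * ∑ J, C'.mat κ β b' J * β (G.s (v i J))) =
        ∑ i, f (C.mat κ β b i) * G.comp (F.comp E.i2) (f.comp β) hc (G.i (Φ.g i k')) := by
      have h2 : ∀ b', F (C'.w b') * f (∑ i, C.mat κ β b i * ∑ J, C'.mat κ β b' J * β (G.s (v i J))) =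
          ∑ i, f (C.mat κ β b i) * (F (C'.w b') * f (∑ J, C'.mat κ β b' J * β (G.s (v i J)))) := by
        intro b'
        rw [map_sum, Finset.mul_sum]
        exact Finset.sum_congr rfl fun i _ => by rw [map_mul]; ring
      rw [Finset.sum_congr rfl fun b' _ => h2 b', Finset.sum_comm]
      refine Finset.sum_congr rfl fun i _ => ?_
      rw [← Finset.mul_sum, C'.sum_s κ β f F hF hβ, hv]
    rw [h1]
    have hδ : (f.comp β).comp G.s = ((G.comp (F.comp E.i2) (f.comp β) hc).comp G.i).comp G.t := by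
      rw [RingHom.comp_assoc G.t G.i, G.i_t, G.comp_s]
    have hfβ : (f.comp β).comp G.t = (f.comp κ).comp x := by
      rw [RingHom.comp_assoc, hβ, RingHom.comp_assoc]
    have h3 := C.mat_comp (f.comp κ) (f.comp β) ((G.comp (F.comp E.i2) (f.comp β) hc).comp G.i) hfβ hδ
    rw [comp_inv_comp G (F.comp E.i2) (f.comp β) hc] at h3
    rw [h3, Matrix.mul_apply, ← C.mat_map κ β f]
    rfl
  rw [key β hβ, key β' hβ']

end Coo

end Groth.Agent.ResProp.EF.K713
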