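import Groth.Agent.ResProp.EF.K713.Pt

/-!
# The framed point of an arrow out of `x` (N2, helper713)
-/

set_option autoImplicit false
set_option linter.style.haveILetI false
universe u

open Groth.Agent.Grpsch.AffGrpd Groth.Agent.ResProp.EF.K412

namespace Groth.Agent.ResProp.EF.K713

variable {A B : Type u} [CommRing A] [CommRing B] {Lb : Type u} [CommRing Lb] [Algebra Lb A] {G : RGrpd A B}

/-- the family `c` -/
def fam1 (D : Gen Lb G) : Fam G (Fin D.n) where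
  c := D.c
  g := D.g
  comp_c := D.comp_c

/-- the monomials -/
def famm (D : Gen Lb G) : Fam G (Fin D.m → Fin D.n) := (fam1 D).pow D.m

variable {k : Type u} [Field k] {x : A →+* k}

/-- choice of coordinates -/
structure Cho (D : Gen Lb G) (x : A →+* k) where
  E : Fb G x
  C1 : Coo (fam1 D) E
  Cm : Coo (famm D) E

theorem exists_fb (G : RGrpd A B) (x : A →+* k) : Nonempty (Fb G x) := by
  obtain ⟨V, _, i1, i2, h1, h2⟩ := exists_pushout x G.s
  exact ⟨{ V := V, i1 := i1, i2 := i2, comm := h1, desc := h2 }⟩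

theorem exists_coo {ι : Type} [Fintype ι] (Φ : Fam G ι) (E : Fb G x) : Nonempty (Coo Φ E) := by
  obtain ⟨r, w, M, S, h1, h2, h3, h4⟩ := exists_coords E.i1 (fun j => E.i2 (Φ.c j))
  exact ⟨{ r := r, w := w, M := M, S := S, ind := h1, hM := h2, hw := h3, MS := h4 }⟩

theorem exists_cho (D : Gen Lb G) (x : A →+* k) : Nonempty (Cho D x) := by
  obtain ⟨E⟩ := exists_fb G x
  obtain ⟨C1⟩ := exists_coo (fam1 D) E
  obtain ⟨Cm⟩ := exists_coo (famm D) E
  exact ⟨⟨E, C1, Cm⟩⟩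

namespace Cho

variable {D : Gen Lb G} (H : Cho D x)

/-- the structure constants of the multiplication `W_1^m → W_m` -/
def nu : Matrix (Fin H.Cm.r) (Fin D.m → Fin H.C1.r) k := H.Cm.M * pw D.m H.C1.S

/-- products of the `w` -/
theorem nu_mul : H.nu * pw D.m H.C1.M = H.Cm.M := by
  classical
  ext d J
  rw [← sub_eq_zero]
  refine H.Cm.ind (fun d => (H.nu * pw D.m H.C1.M) d J - H.Cm.M d J) ?_ d
  simp_rw [map_sub, mul_sub, Finset.sum_sub_distrib]
  rw [sub_eq_zero, ← H.Cm.hM J]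
  -- `w`-products
  have h1 : ∀ Q : Fin D.m → Fin H.C1.r, ∏ l, H.C1.w (Q l) = ∑ d, H.Cm.w d * H.E.i1 (H.nu d Q) := by
    intro Q
    have h2 : ∏ l, H.C1.w (Q l) = ∑ I : Fin D.m → Fin D.n,
        H.E.i2 ((famm D).c I) * H.E.i1 (pw D.m H.C1.S I Q) := by
      simp_rw [H.C1.hw]
      rw [Finset.prod_univ_sum, Fintype.piFinset_univ]
      refine Finset.sum_congr rfl fun I _ => ?_
      rw [Finset.prod_mul_distrib]
      congr 1
      · exact (map_prod H.E.i2 _ _).symm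
      · exact (map_prod H.E.i1 _ _).symm
    rw [h2]
    have h3 : ∀ I : Fin D.m → Fin D.n, H.E.i2 ((famm D).c I) * H.E.i1 (pw D.m H.C1.S I Q) =
        ∑ d, H.Cm.w d * H.E.i1 (H.Cm.M d I * pw D.m H.C1.S I Q) := by
      intro I
      rw [H.Cm.hM I, Finset.sum_mul]
      exact Finset.sum_congr rfl fun d _ => by rw [map_mul, mul_assoc]
    rw [Finset.sum_congr rfl fun I _ => h3 I, Finset.sum_comm]
    refine Finset.sum_congr rfl fun d _ => ?_
    rw [← Finset.mul_sum, ← map_sum]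
    rfl
  have h4 : H.E.i2 ((famm D).c J) = ∑ Q : Fin D.m → Fin H.C1.r,
      (∏ l, H.C1.w (Q l)) * H.E.i1 (pw D.m H.C1.M Q J) := by
    have h5 : H.E.i2 ((famm D).c J) = ∏ l, H.E.i2 ((fam1 D).c (J l)) :=
      map_prod H.E.i2 (fun l => (fam1 D).c (J l)) Finset.univ
    rw [h5]
    simp_rw [H.C1.hM]
    rw [Finset.prod_univ_sum, Fintype.piFinset_univ]
    refine Finset.sum_congr rfl fun Q _ => ?_
    rw [Finset.prod_mul_distrib]
    congr 1
    exact (map_prod H.E.i1 _ _).symm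
  rw [h4]
  simp_rw [h1, Finset.sum_mul]
  rw [Finset.sum_comm]
  refine Finset.sum_congr rfl fun d _ => ?_
  rw [Matrix.mul_apply, map_sum, Finset.mul_sum]
  exact Finset.sum_congr rfl fun Q _ => by rw [map_mul, mul_assoc]

variable {T : Type u} [CommRing T]

/-- the inverse arrow of `F` -/
def inv (F : H.E.V →+* T) : B →+* T := (F.comp H.E.i2).comp G.i

theorem inv_t (F : H.E.V →+* T) : (H.inv F).comp G.t = (F.comp H.E.i1).comp x := by
  rw [inv, RingHom.comp_assoc G.t G.i, G.i_t, RingHom.comp_assoc, ← H.E.comm, RingHom.comp_assoc]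

theorem inv_s (F : H.E.V →+* T) : (H.inv F).comp G.s = (F.comp H.E.i2).comp G.t := by
  rw [inv, RingHom.comp_assoc G.s G.i, G.i_s]

/-- the framed point -/
def pt (F : H.E.V →+* T) (Y Y' : Matrix (Fin H.C1.r) (Fin H.C1.r) T) (Ym : Matrix (Fin H.Cm.r) (Fin H.Cm.r) T) :
    FrPt D H.C1.r H.Cm.r T where
  a := (F.comp H.E.i2).comp G.t
  M := Y * H.C1.mat (F.comp H.E.i1) (H.inv F)
  Mm := Ym * H.Cm.mat (F.comp H.E.i1) (H.inv F)
  mu := Ym * H.nu.map (F.comp H.E.i1) * pw D.m Y'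

theorem pt_map {T' : Type u} [CommRing T'] (f : T →+* T') (F : H.E.V →+* T)
    (Y Y' : Matrix (Fin H.C1.r) (Fin H.C1.r) T) (Ym : Matrix (Fin H.Cm.r) (Fin H.Cm.r) T) :
    (H.pt F Y Y' Ym).map f = H.pt (f.comp F) (Y.map f) (Y'.map f) (Ym.map f) := by
  rw [FrPt.map, pt, pt]
  congr 1
  · rw [Matrix.map_mul, Coo.mat_map]
    rfl
  · rw [Matrix.map_mul, Coo.mat_map]
    rfl
  · rw [Matrix.map_mul, Matrix.map_mul, Matrix.map_map, pw_map]
    rfl

theorem matm (κ : k →+* T) (β : B →+* T) : H.Cm.mat κ β = H.Cm.M.map κ * pw D.m (D.g.map β) := by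
  rw [Coo.mat, pw_map]
  rfl

theorem closed (F : H.E.V →+* T) (Y Y' : Matrix (Fin H.C1.r) (Fin H.C1.r) T)
    (Ym : Matrix (Fin H.Cm.r) (Fin H.Cm.r) T) (hY : Y * Y' = 1) : IsFrC (H.pt F Y Y' Ym) where
  hmu b J := by
    have h1 : (H.pt F Y Y' Ym).Mm = (H.pt F Y Y' Ym).mu * pw D.m (H.pt F Y Y' Ym).M := by
      change Ym * H.Cm.mat (F.comp H.E.i1) (H.inv F) = Ym * H.nu.map (F.comp H.E.i1) * pw D.m Y' *
        pw D.m (Y * H.C1.mat (F.comp H.E.i1) (H.inv F))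
      have h2 : pw D.m Y' * pw D.m (Y * H.C1.mat (F.comp H.E.i1) (H.inv F)) =
          pw D.m (H.C1.mat (F.comp H.E.i1) (H.inv F)) := by
        rw [← pw_mul, ← Matrix.mul_assoc, mul_eq_one_comm.1 hY, Matrix.one_mul]
      have h3 : H.nu.map (F.comp H.E.i1) * pw D.m (H.C1.mat (F.comp H.E.i1) (H.inv F)) =
          H.Cm.mat (F.comp H.E.i1) (H.inv F) := by
        have h4 : pw D.m (H.C1.mat (F.comp H.E.i1) (H.inv F)) =
            (pw D.m H.C1.M).map (F.comp H.E.i1) * pw D.m (D.g.map (H.inv F)) := by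
          rw [← pw_map, ← pw_mul]
          rfl
        rw [h4, ← Matrix.mul_assoc, ← Matrix.map_mul, nu_mul, matm]
      rw [Matrix.mul_assoc (Ym * _), h2, Matrix.mul_assoc Ym, h3]
    rw [h1]
    rfl
  rel1 v hv b := by
    have h1 := H.C1.mat_rel (F.comp H.E.i1) (H.inv F) (H.inv_t F) v hv
    have h2 : ∀ j, (H.pt F Y Y' Ym).a (v j) = H.inv F (G.s (v j)) := fun j =>
      (RingHom.congr_fun (H.inv_s F) (v j)).symm
    simp_rw [h2]
    change ∑ j, (Y * H.C1.mat (F.comp H.E.i1) (H.inv F)) b j * _ = 0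
    simp_rw [Matrix.mul_apply, Finset.sum_mul]
    rw [Finset.sum_comm]
    refine Finset.sum_eq_zero fun b' _ => ?_
    simp_rw [mul_assoc]
    rw [← Finset.mul_sum, h1, mul_zero]
  relm v hv b := by
    have h1 := H.Cm.mat_rel (F.comp H.E.i1) (H.inv F) (H.inv_t F) v hv
    have h2 : ∀ j, (H.pt F Y Y' Ym).a (v j) = H.inv F (G.s (v j)) := fun j =>
      (RingHom.congr_fun (H.inv_s F) (v j)).symm
    simp_rw [h2]
    change ∑ j, (Ym * H.Cm.mat (F.comp H.E.i1) (H.inv F)) b j * _ = 0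
    simp_rw [Matrix.mul_apply, Finset.sum_mul]
    rw [Finset.sum_comm]
    refine Finset.sum_eq_zero fun b' _ => ?_
    simp_rw [mul_assoc]
    rw [← Finset.mul_sum, h1, mul_zero]

/-- the values at the identity -/
theorem pt_ep1 (F : H.E.V →+* T) (Y Y' : Matrix (Fin H.C1.r) (Fin H.C1.r) T)
    (Ym : Matrix (Fin H.Cm.r) (Fin H.Cm.r) T) (hY : Y * Y' = 1) :
    ∃ w : Fin H.C1.r → T, ∀ j, ∑ b, w b * (H.pt F Y Y' Ym).M b j = (H.pt F Y Y' Ym).a (G.e (D.c j)) := by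
  refine ⟨fun b => ∑ d, F (H.C1.w d) * Y' d b, fun j => ?_⟩
  have h1 := H.C1.mat_ep (F := F) j
  refine Eq.trans ?_ h1
  simp_rw [Finset.sum_mul]
  rw [Finset.sum_comm]
  refine Finset.sum_congr rfl fun d _ => ?_
  simp_rw [mul_assoc]
  rw [← Finset.mul_sum]
  congr 1
  change ∑ b, Y' d b * (Y * H.C1.mat (F.comp H.E.i1) (H.inv F)) b j = H.C1.mat (F.comp H.E.i1) (H.inv F) d j
  rw [← Matrix.mul_apply, ← Matrix.mul_assoc, mul_eq_one_comm.1 hY, Matrix.one_mul]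

/-- the values at the identity -/
theorem pt_epm (F : H.E.V →+* T) (Y Y' : Matrix (Fin H.C1.r) (Fin H.C1.r) T)
    (Ym Ym' : Matrix (Fin H.Cm.r) (Fin H.Cm.r) T) (hY : Ym * Ym' = 1) :
    ∃ w : Fin H.Cm.r → T, ∀ J, ∑ b, w b * (H.pt F Y Y' Ym).Mm b J = (H.pt F Y Y' Ym).a (G.e (mon D.c J)) := by
  refine ⟨fun b => ∑ d, F (H.Cm.w d) * Ym' d b, fun j => ?_⟩
  have h1 := H.Cm.mat_ep (F := F) j
  refine Eq.trans ?_ h1
  simp_rw [Finset.sum_mul]
  rw [Finset.sum_comm]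
  refine Finset.sum_congr rfl fun d _ => ?_
  simp_rw [mul_assoc]
  rw [← Finset.mul_sum]
  congr 1
  change ∑ b, Ym' d b * (Ym * H.Cm.mat (F.comp H.E.i1) (H.inv F)) b j = H.Cm.mat (F.comp H.E.i1) (H.inv F) d j
  rw [← Matrix.mul_apply, ← Matrix.mul_assoc, mul_eq_one_comm.1 hY, Matrix.one_mul]

/-- arrows act -/
theorem trans (F F' : H.E.V →+* T) (Y Y' : Matrix (Fin H.C1.r) (Fin H.C1.r) T)
    (Ym : Matrix (Fin H.Cm.r) (Fin H.Cm.r) T) (γ : B →+* T) (h : γ.comp G.s = (F.comp H.E.i2).comp G.t)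
    (h1 : F'.comp H.E.i1 = F.comp H.E.i1) (h2 : F'.comp H.E.i2 = G.comp γ (F.comp H.E.i2) h) :
    IsTrans γ (H.pt F Y Y' Ym) (H.pt F' Y Y' Ym) := by
  have hi : H.inv F' = G.comp (H.inv F) (γ.comp G.i) (by rw [inv_s, RingHom.comp_assoc G.t G.i, G.i_t, h]) := by
    rw [inv, h2, inv_comp]
    rfl
  have hm1 : H.C1.mat (F'.comp H.E.i1) (H.inv F') = H.C1.mat (F.comp H.E.i1) (H.inv F) * D.g.map (γ.comp G.i) := by
    rw [h1, hi]
    exact H.C1.mat_comp _ _ _ (H.inv_t F) _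
  have hmm : H.Cm.mat (F'.comp H.E.i1) (H.inv F') =
      H.Cm.mat (F.comp H.E.i1) (H.inv F) * (famm D).g.map (γ.comp G.i) := by
    rw [h1, hi]
    exact H.Cm.mat_comp _ _ _ (H.inv_t F) _
  refine ⟨h, ?_, fun b j => ?_, fun b J => ?_, ?_⟩
  · change γ.comp G.t = (F'.comp H.E.i2).comp G.t
    rw [h2, G.comp_t]
  · change (Y * H.C1.mat (F'.comp H.E.i1) (H.inv F')) b j = _
    rw [hm1, ← Matrix.mul_assoc, Matrix.mul_apply]
    rfl
  · change (Ym * H.Cm.mat (F'.comp H.E.i1) (H.inv F')) b J = _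
    rw [hmm, ← Matrix.mul_assoc, Matrix.mul_apply]
    refine Finset.sum_congr rfl fun I _ => ?_
    congr 1
    exact map_prod (γ.comp G.i) (fun l => D.g (I l) (J l)) Finset.univ
  · change Ym * H.nu.map (F'.comp H.E.i1) * pw D.m Y' = _
    rw [h1]
    rfl

/-- theta is invariant -/
theorem theta (F F' : H.E.V →+* T) (Y Y' : Matrix (Fin H.C1.r) (Fin H.C1.r) T)
    (Ym : Matrix (Fin H.Cm.r) (Fin H.Cm.r) T) (γ : B →+* T) (h : γ.comp G.s = (F.comp H.E.i2).comp G.t)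
    (h1 : F'.comp H.E.i1 = F.comp H.E.i1) (h2 : F'.comp H.E.i2 = G.comp γ (F.comp H.E.i2) h) :
    ThetaEq (H.pt F Y Y' Ym) (H.pt F' Y Y' Ym) where
  th0 b := by
    change (Y * H.C1.mat (F.comp H.E.i1) (H.inv F)) b D.i0 = (Y * H.C1.mat (F'.comp H.E.i1) (H.inv F')) b D.i0
    rw [Matrix.mul_apply, Matrix.mul_apply]
    refine Finset.sum_congr rfl fun d _ => ?_
    rw [H.C1.mat_one _ _ (H.inv_t F) D.i0 D.c_i0, H.C1.mat_one _ _ (H.inv_t F') D.i0 D.c_i0, h1]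
  th1 := by
    change Ym * H.nu.map (F.comp H.E.i1) * pw D.m Y' = Ym * H.nu.map (F'.comp H.E.i1) * pw D.m Y'
    rw [h1]
  th2 l b := by
    have key : ∀ F : H.E.V →+* T, ∑ J, (H.pt F Y Y' Ym).Mm b J * (H.pt F Y Y' Ym).a (D.tx l J) =
        ∑ d, Ym b d * ∑ J, (F.comp H.E.i1) (H.Cm.M d J) * (F.comp H.E.i1) (x (D.tx l J)) := by
      intro F
      have e1 := H.Cm.mat_t (F.comp H.E.i1) (H.inv F) (H.inv_t F) (D.tx l) (D.x l) (D.t_x l)
      have e2 : ∀ j, (H.pt F Y Y' Ym).a (D.tx l j) = H.inv F (G.s (D.tx l j)) := fun j =>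
        (RingHom.congr_fun (H.inv_s F) _).symm
      simp_rw [e2]
      change ∑ j, (Ym * H.Cm.mat (F.comp H.E.i1) (H.inv F)) b j * _ = _
      simp_rw [Matrix.mul_apply, Finset.sum_mul]
      rw [Finset.sum_comm]
      refine Finset.sum_congr rfl fun b' _ => ?_
      simp_rw [mul_assoc]
      rw [← Finset.mul_sum, e1]
    rw [key, key, h1]
  th3 k' b b' := by
    have key : ∀ F : H.E.V →+* T, ∑ i, (H.pt F Y Y' Ym).M b i * ∑ J, (H.pt F Y Y' Ym).Mm b' J *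
        (H.pt F Y Y' Ym).a (D.ig i k' J) = ∑ d, ∑ d', (Y b d * Ym b' d') * ∑ i,
          H.C1.mat (F.comp H.E.i1) (H.inv F) d i * ∑ J, H.Cm.mat (F.comp H.E.i1) (H.inv F) d' J *
            H.inv F (G.s (D.ig i k' J)) := by
      intro F
      have e2 : ∀ i j, (H.pt F Y Y' Ym).a (D.ig i k' j) = H.inv F (G.s (D.ig i k' j)) := fun i j =>
        (RingHom.congr_fun (H.inv_s F) _).symm
      simp_rw [e2]
      change ∑ i, (Y * H.C1.mat (F.comp H.E.i1) (H.inv F)) b i *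
        ∑ J, (Ym * H.Cm.mat (F.comp H.E.i1) (H.inv F)) b' J * _ = _
      simp_rw [Matrix.mul_apply, Finset.sum_mul, Finset.mul_sum]
      rw [Finset.sum_comm]
      refine Finset.sum_congr rfl fun d _ => ?_
      rw [Finset.sum_congr rfl fun i _ => Finset.sum_comm, Finset.sum_comm]
      refine Finset.sum_congr rfl fun d' _ => ?_
      refine Finset.sum_congr rfl fun i _ => ?_
      refine Finset.sum_congr rfl fun J _ => ?_
      ring
    rw [key, key]
    refine Finset.sum_congr rfl fun d _ => ?_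
    refine Finset.sum_congr rfl fun d' _ => ?_
    congr 1
    rw [h1]
    exact H.C1.mat_three H.Cm (F.comp H.E.i1) (H.inv F) (H.inv F') (H.inv_t F) (by rw [inv_t, h1]) k'
      (fun i J => D.ig i k' J) (fun i => D.i_g i k') d d'
  thL l := by
    change (F.comp H.E.i2) (G.t _) = (F'.comp H.E.i2) (G.t _)
    have e1 := RingHom.congr_fun h (algebraMap Lb A l)
    have e2 : (F'.comp H.E.i2) (G.t (algebraMap Lb A l)) = γ (G.t (algebraMap Lb A l)) := by
      rw [h2]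
      exact RingHom.congr_fun (G.comp_t _ _ h) _
    rw [e2]
    have e3 : (F.comp H.E.i2) (G.t (algebraMap Lb A l)) = γ (G.s (algebraMap Lb A l)) := e1.symm
    exact e3.trans (congrArg γ (D.st l))

/-- `GL_r1 × GL_rm` acts -/
theorem gtrans (F : H.E.V →+* T) (Y Y' X X' : Matrix (Fin H.C1.r) (Fin H.C1.r) T)
    (Ym Xm : Matrix (Fin H.Cm.r) (Fin H.Cm.r) T) (hX : X * X' = 1) :
    IsGTrans X Xm (H.pt F Y Y' Ym) (H.pt F (X * Y) (Y' * X') (Xm * Ym)) where
  ha := rfl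
  hM := Matrix.mul_assoc _ _ _
  hMm := Matrix.mul_assoc _ _ _
  hmu b J := by
    have h1 : (H.pt F (X * Y) (Y' * X') (Xm * Ym)).mu * pw D.m X = Xm * (H.pt F Y Y' Ym).mu := by
      change Xm * Ym * H.nu.map (F.comp H.E.i1) * pw D.m (Y' * X') * pw D.m X =
        Xm * (Ym * H.nu.map (F.comp H.E.i1) * pw D.m Y')
      rw [Matrix.mul_assoc _ (pw D.m (Y' * X')), ← pw_mul, Matrix.mul_assoc Y', mul_eq_one_comm.1 hX, Matrix.mul_one]
      simp only [Matrix.mul_assoc]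
    exact congrFun (congrFun h1 b) J

end Cho

end Groth.Agent.ResProp.EF.K713
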